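import Groth.Agent.KZeroLib.CohThick
import Groth.Agent.DCat.PerfLocal
import Groth.Agent.Coherent.CohBC.HomSheaf
import Groth.Agent.Coherent.FinMor
import Mathlib

/-!
# Perfect objects on Noetherian schemes are bounded with coherent cohomology
-/

set_option autoImplicit false
set_option backward.isDefEq.respectTransparency false
set_option backward.defeqAttrib.useBackward true
universe w v u

open CategoryTheory CategoryTheory.Limits AlgebraicGeometry TopologicalSpace
open Groth.Agent.DCat.PerfLocal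

attribute [local instance] HasDerivedCategory.standard

namespace Groth.Agent.KZeroLib

/-- Homology of a complex with terms in a class closed under kernels and cokernels. -/
theorem prop_homology {C : Type w} [Category.{v} C] [Abelian C] {P : ObjectProperty C}
    [P.IsClosedUnderKernels] [P.IsClosedUnderCokernels] (S : ShortComplex C)
    (h₁ : P S.X₁) (h₂ : P S.X₂) (h₃ : P S.X₃) : P S.homology := by
  have hc : P S.cycles := P.prop_of_isLimit_kernelFork S.cyclesIsKernel h₂ h₃
  exact P.prop_of_isColimit_cokernelCofork S.homologyIsCokernel h₁ hc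

variable {X : Scheme.{u}}

theorem isCoh_of_cover (M : X.Modules) {ι : Type u} (U : ι → X.Opens) (hU : IsOpenCover U)
    (h : ∀ i, Coh.IsCoh (M.restrict (U i).ι)) : Coh.IsCoh M := by
  refine ⟨Coherent.isQCoh_of_openImmersion_cover M (fun i => (U i).ι) (fun x => ?_) fun i => (h i).1,
    Coherent.isFT_of_locallyFinGen (Coherent.LocallyFinGen_of_restrict_cover M U hU
      fun i => Coherent.locallyFinGen_of_isFT _ (h i).2)⟩
  obtain ⟨i, hi⟩ := hU.exists_mem x
  exact ⟨i, by simpa using hi⟩

theorem hd_strictlyPerfect [IsLocallyNoetherian X] {E : CochainComplex X.Modules ℤ}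
    (hE : DCoh.IsStrictlyPerfect E) :
    (∀ i, Coh.IsCoh (DCoh.HD (DerivedCategory.Q.obj E) i)) ∧
      ∃ a b : ℤ, ∀ i, i < a ∨ b < i → IsZero (DCoh.HD (DerivedCategory.Q.obj E) i) := by
  obtain ⟨⟨a, b, hab⟩, hf⟩ := hE
  have hcoh : ∀ i, cohSupp X Set.univ (E.X i) := fun i =>
    ⟨Coherent.CohBC.isCoh_of_isFinLocFree (hf i), Set.subset_univ _⟩
  refine ⟨fun i => ?_, a, b, fun i hi => ?_⟩
  · exact ((cohSupp X Set.univ).prop_of_iso ((DerivedCategory.homologyFunctorFactors X.Modules i).app E).symm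
      (prop_homology (E.sc i) (hcoh _) (hcoh _) (hcoh _))).1
  · exact IsZero.of_iso (ShortComplex.isZero_homology_of_isZero_X₂ _ (hab i hi))
      ((DerivedCategory.homologyFunctorFactors X.Modules i).app E)

theorem hd_of_perfect [IsNoetherian X] {K : DCoh.D X} (hK : DCoh.IsPerfect K) :
    DCoh.IsCohD K ∧ ∃ a b : ℤ, K.IsGE a ∧ K.IsLE b := by
  classical
  have hloc : ∀ x : X, ∃ (V : X.Opens) (a b : ℤ), x ∈ V ∧
      ∀ i, Coh.IsCoh ((DCoh.HD K i).restrict V.ι) ∧
        (i < a ∨ b < i → IsZero ((DCoh.HD K i).restrict V.ι)) := by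
    intro x
    obtain ⟨W, k, hk, hx, hP⟩ := (isPerfect_iff K).1 hK x
    obtain ⟨E, hE, ⟨e⟩⟩ := (hP.comp k.isoOpensRange.inv).congr k.isoOpensRange_inv_comp
    let V := k.opensRange
    haveI := DCat.PullPerf.preservesFiniteLimits_restrict V.ι
    obtain ⟨hc, a, b, hz⟩ := hd_strictlyPerfect hE
    let φ : ∀ i, (DCoh.HD K i).restrict V.ι ≅ DCoh.HD (DerivedCategory.Q.obj E) i := fun i =>
      (DCat.SuppOpen.hdMapIso (Scheme.Modules.restrictFunctor V.ι) K i).symm ≪≫
        (DerivedCategory.homologyFunctor _ i).mapIso e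
    exact ⟨V, a, b, hx, fun i => ⟨Coherent.isCoh_iso (φ i).symm (hc i), fun hi => (hz i hi).of_iso (φ i)⟩⟩
  choose V a b hxV hV using hloc
  obtain ⟨s, hs⟩ := CompactSpace.elim_nhds_subcover (fun x => (V x : Set X))
    fun x => (V x).2.mem_nhds (hxV x)
  have hcov : IsOpenCover V := IsOpenCover.mk (eq_top_iff.2 fun x _ => Opens.mem_iSup.2 ⟨x, hxV x⟩)
  refine ⟨fun i => isCoh_of_cover _ V hcov fun x => (hV x i).1,
    (Finset.image a s ∪ {0}).min' (by simp), (Finset.image b s ∪ {0}).max' (by simp), ?_, ?_⟩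
  all_goals
    first
    | rw [DerivedCategory.isGE_iff]
    | rw [DerivedCategory.isLE_iff]
    intro i hi
    refine ModStalk.isZero_of_stalks fun x => ?_
    obtain ⟨y, hy, hxy⟩ := Set.mem_iUnion₂.1 (hs ▸ Set.mem_univ x : x ∈ ⋃ y ∈ s, (V y : Set X))
    have hz : IsZero ((DCoh.HD K i).restrict (V y).ι) := (hV y i).2 (by
      first
      | exact Or.inl (lt_of_lt_of_le hi (Finset.min'_le _ _
          (Finset.mem_union_left _ (Finset.mem_image_of_mem a hy))))
      | exact Or.inr (lt_of_le_of_lt (Finset.le_max' _ _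
          (Finset.mem_union_left _ (Finset.mem_image_of_mem b hy))) hi))
    let x' : ↥(V y).toScheme := ⟨x, hxy⟩
    haveI : Subsingleton ((DCoh.HD K i).presheaf.stalk x) :=
      DCat.SuppOpen.subsingleton_stalk_of_restrict (V y).ι (DCoh.HD K i) x'
        (DCat.SuppOpen.subsingleton_of_isZero_stalkFunctor _ x'
          (Functor.map_isZero (DerSch.stalkFunctor _ x') hz))
    exact DCat.SuppOpen.isZero_stalkFunctor _ x

end Groth.Agent.KZeroLib
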