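import Groth.Agent.KZeroLib.DerivedEuler
import Groth.Agent.Coherent.CohOps
import Groth.Agent.Coherent.DevissageTwoThree
import Groth.Agent.Coherent.DevissageApps
import Mathlib

/-!
# Coherent modules (with support condition) form a thick class
-/

set_option autoImplicit false
universe u

open scoped ZeroObject

open CategoryTheory CategoryTheory.Limits AlgebraicGeometry Groth.Agent.ModStalk Groth.Agent.AssSch12

namespace Groth.Agent.KZeroLib

variable (X : Scheme.{u})

/-- Coherent modules supported in `Y`. -/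
def cohSupp (Y : Set X) : ObjectProperty X.Modules :=
  fun G => Coh.IsCoh G ∧ CohB1.support G ⊆ Y

variable {X}

instance [IsLocallyNoetherian X] (Y : Set X) : (cohSupp X Y).IsClosedUnderIsomorphisms where
  of_iso e h := ⟨Coherent.isCoh_iso e h.1, (Coherent.support_subset_of_epi e.hom).trans h.2⟩

theorem isCoh_isZero {W : X.Modules} (hW : IsZero W) : Coh.IsCoh W :=
  (Coherent.isCoh_iff_finite_sections W).2 ⟨Coherent.isQCoh_of_isZero hW, fun V _ => by
    have : Subsingleton Γ(W, V) := subsingleton_of_forall_eq 0 fun x =>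
      congrArg (fun φ : W ⟶ W => φ.app V x) (hW.eq_of_src (𝟙 W) 0)
    infer_instance⟩

theorem support_isZero (Y : Set X) {W : X.Modules} (hW : IsZero W) : CohB1.support W ⊆ Y := fun z hz => by
  refine absurd hz ?_
  rw [Coherent.notMem_support_iff]
  exact Functor.map_isZero _ hW

instance [IsLocallyNoetherian X] (Y : Set X) : (cohSupp X Y).ContainsZero where
  exists_zero := ⟨0, isZero_zero _, isCoh_isZero (isZero_zero _), support_isZero Y (isZero_zero _)⟩

instance [IsLocallyNoetherian X] (Y : Set X) : (cohSupp X Y).IsClosedUnderKernels where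
  kernels_le := by
    rintro _ ⟨f, k, hk, hM, hN⟩
    refine (cohSupp X Y).prop_of_iso (IsLimit.conePointUniqueUpToIso (kernelIsKernel f) hk) ?_
    exact ⟨Coherent.isCoh_kernel f hM.1 hN.1.1, (Coherent.support_subset_of_mono (kernel.ι f)).trans hM.2⟩

instance [IsLocallyNoetherian X] (Y : Set X) : (cohSupp X Y).IsClosedUnderCokernels where
  cokernels_le := by
    rintro _ ⟨f, k, hk, hM, hN⟩
    refine (cohSupp X Y).prop_of_iso (IsColimit.coconePointUniqueUpToIso (cokernelIsCokernel f) hk) ?_
    exact ⟨Coherent.isCoh_cokernel f hM.1.1 hN.1, (Coherent.support_subset_of_epi (cokernel.π f)).trans hN.2⟩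

instance [IsLocallyNoetherian X] (Y : Set X) : (cohSupp X Y).IsClosedUnderExtensions where
  prop_X₂_of_shortExact hS h₁ h₃ := ⟨Coherent.isCoh_X₂ hS h₁.1 h₃.1,
    (Coherent.support_X₂_subset hS).trans (Set.union_subset h₁.2 h₃.2)⟩

end Groth.Agent.KZeroLib
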