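import Groth.Agent.KZeroLib.SigmaExact
import Groth.Agent.KZeroLib.CohThick
import Groth.Agent.KZeroLib.PerfectCoh
import Groth.Agent.Coherent.ClosedEquiv
import Groth.Agent.DCat.ModulesGrothendieck
import Mathlib

/-!
# Locally finite coproducts of coherent modules, and modules killed by the ideal of a closed subscheme
-/

set_option autoImplicit false
set_option backward.isDefEq.respectTransparency.types false
universe u

open CategoryTheory CategoryTheory.Limits AlgebraicGeometry TopologicalSpace Opposite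

namespace Groth.Agent.KZeroLib

variable {X : Scheme.{u}}

local notation "St" => DerSch.stalkFunctor X

instance preservesSigma_stalk (x : X) {J : Type} :
    PreservesColimitsOfShape (Discrete J) (DerSch.stalkFunctor X x) :=
  haveI : PreservesColimitsOfSize.{0, 0} (DerSch.stalkFunctor X x) := preservesColimitsOfSize_shrink _
  inferInstance

/-- The stalks of a coproduct are jointly generated by those of the summands. -/
theorem stalk_sigma_hom_ext {J : Type} (f : J → X.Modules) (x : X)
    {T : ModuleCat.{u} (X.presheaf.stalk x)} (p q : (St x).obj (∐ f) ⟶ T)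
    (h : ∀ j, (St x).map (Sigma.ι f j) ≫ p = (St x).map (Sigma.ι f j) ≫ q) : p = q :=
  (isColimitOfPreserves (St x) (colimit.isColimit (Discrete.functor f))).hom_ext fun j => h j.as

theorem support_sigma_subset {J : Type} (f : J → X.Modules) :
    CohB1.support (∐ f) ⊆ ⋃ j, CohB1.support (f j) := fun x hx => by
  by_contra h
  rw [Set.mem_iUnion, not_exists] at h
  refine (Coherent.notMem_support_iff _ x).2 ((IsZero.iff_id_eq_zero _).2 ?_) hx
  refine stalk_sigma_hom_ext f x _ _ fun j => ?_
  exact ((Coherent.notMem_support_iff _ x).1 (h j)).eq_of_src _ _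

theorem support_subset_of_iso {M N : X.Modules} (e : M ≅ N) : CohB1.support N ⊆ CohB1.support M :=
  Coherent.support_subset_of_epi e.hom

theorem isZero_restrict_of_disjoint (M : X.Modules) (W : X.Opens)
    (h : Disjoint (W : Set X) (CohB1.support M)) : IsZero (M.restrict W.ι) := by
  refine (IsZero.iff_id_eq_zero _).2 (Scheme.Modules.hom_ext _ _ fun V => ?_)
  ext m
  have : Subsingleton Γ(M, W.ι ''ᵁ V) := Coherent.subsingleton_sections_of_disjoint M _ (h.mono_left (by
    rintro _ ⟨z, -, rfl⟩; exact z.2))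
  exact Subsingleton.elim (α := Γ(M, W.ι ''ᵁ V)) _ _

variable [IsLocallyNoetherian X]

theorem isCoh_sigma_finite {J : Type} (hJ : Nonempty (Fintype J)) (f : J → X.Modules)
    (hf : ∀ j, Coh.IsCoh (f j)) : Coh.IsCoh (∐ f) := by
  revert f
  refine @Finite.induction_empty_option
    (fun J : Type => ∀ f : J → X.Modules, (∀ j, Coh.IsCoh (f j)) → Coh.IsCoh (∐ f)) ?_ ?_ ?_ J
    (hJ.elim fun h => Finite.of_fintype J)
  · intro α β e ih f hf
    exact Coherent.isCoh_iso (Sigma.reindex e f) (ih _ fun j => hf _)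
  · intro f _
    refine isCoh_isZero ((IsZero.iff_id_eq_zero _).2 (Limits.Sigma.hom_ext _ _ fun j => j.elim))
  · intro α _ ih f hf
    refine (sum_shortExact ((Equiv.optionEquivSumPUnit.{0} α).symm) f).elim fun a h => h.elim fun b h => h.elim
      fun w hS => Coherent.isCoh_X₂ hS (ih _ fun _ => hf _) ?_
    exact Coherent.isCoh_iso (coproductUniqueIso
      (fun l : PUnit => f ((Equiv.optionEquivSumPUnit.{0} α).symm (.inr l)))).symm (hf _)

/-- A locally finite coproduct of coherent modules is coherent. -/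
theorem isCoh_sigma {J : Type} (f : J → X.Modules) (hf : ∀ j, Coh.IsCoh (f j))
    (hlf : LocallyFinite fun j => CohB1.support (f j)) : Coh.IsCoh (∐ f) := by
  classical
  choose N hN hfin using hlf
  choose W hW using fun x => mem_nhds_iff.1 (hN x)
  let U : X → X.Opens := fun x => ⟨W x, (hW x).2.1⟩
  refine isCoh_of_cover _ U (IsOpenCover.mk (eq_top_iff.2 fun x _ => Opens.mem_iSup.2 ⟨x, (hW x).2.2⟩)) fun x => ?_
  let s : Set J := {j | (CohB1.support (f j) ∩ (U x : Set X)).Nonempty}
  have hs : s.Finite := (hfin x).subset fun j hj => hj.mono (Set.inter_subset_inter_right _ (hW x).1)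
  haveI : Finite s := hs
  obtain ⟨a, b, w, hS⟩ := sum_shortExact (Equiv.Set.sumCompl s) f
  have hS' := hS.map_of_exact (Scheme.Modules.restrictFunctor (U x).ι)
  have hz : IsZero ((∐ fun l : ↥sᶜ => f l.1).restrict (U x).ι) := by
    refine isZero_restrict_of_disjoint _ _ (Set.disjoint_left.2 fun z hz hzs => ?_)
    obtain ⟨l, hl⟩ := Set.mem_iUnion.1 (support_sigma_subset _ hzs)
    exact l.2 ⟨z, hl, hz⟩
  have hfinC : Coh.IsCoh (∐ fun k : s => f k.1) := isCoh_sigma_finite ⟨hs.fintype⟩ _ fun k => hf _
  haveI : IsIso ((Scheme.Modules.restrictFunctor (U x).ι).map a) := (hS'.isIso_f_iff).2 hz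
  exact Coherent.isCoh_iso (asIso ((Scheme.Modules.restrictFunctor (U x).ι).map a))
    (Coherent.isCoh_restrict (U x) hfinC)

section Killed

variable {Z : Scheme.{u}} (i : Z ⟶ X)

/-- Killed by the ideal of the closed subscheme, on stalks. -/
def Killed (M : X.Modules) : Prop :=
  ∀ (U : X.affineOpens) (a : Γ(X, U.1)), a ∈ i.ker.ideal U → ∀ (x : X) (hx : x ∈ U.1)
    (v : (St x).obj M), X.presheaf.germ U.1 x hx a • v = 0

omit [IsLocallyNoetherian X] in
theorem killed_iff (M : X.Modules) : Killed i M ↔ ClSub.KilledByIdeal i.ker M := by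
  constructor
  · intro h U a ha m
    refine TopCat.Presheaf.section_ext (⟨M.presheaf, M.isSheaf⟩ : TopCat.Sheaf Ab X) U.1 _ _ fun x hx => ?_
    exact (QCohLoc.germ_smul' M hx a m).trans ((h U a ha x hx (M.presheaf.germ U.1 x hx m)).trans
      (map_zero (M.presheaf.germ U.1 x hx).hom).symm)
  · intro h U a ha x hx v
    obtain ⟨W, hxW, m, hm⟩ := M.presheaf.exists_germ_eq (show M.presheaf.stalk x from v)
    obtain ⟨_, ⟨V, hV, rfl⟩, hxV, hVW⟩ :=
      X.isBasis_affineOpens.exists_subset_of_mem_open (show x ∈ (U.1 ⊓ W : X.Opens) from ⟨hx, hxW⟩) (U.1 ⊓ W).2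
    have h1 : V ≤ U.1 := fun z hz => (hVW hz).1
    have h2 : V ≤ W := fun z hz => (hVW hz).2
    have ha' : X.presheaf.map (homOfLE h1).op a ∈ i.ker.ideal ⟨V, hV⟩ := by
      rw [← i.ker.map_ideal (U := ⟨V, hV⟩) (V := U) h1]
      exact Ideal.mem_map_of_mem _ ha
    have h0 := congrArg (M.presheaf.germ V x hxV) (h ⟨V, hV⟩ _ ha' (M.presheaf.map (homOfLE h2).op m))
    refine Eq.trans ?_ (h0.trans (map_zero (M.presheaf.germ V x hxV).hom))
    refine Eq.trans ?_ (QCohLoc.germ_smul' M hxV _ _).symm
    rw [TopCat.Presheaf.germ_res_apply, TopCat.Presheaf.germ_res_apply, hm]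
    rfl

omit [IsLocallyNoetherian X] in
theorem killed_of_epi {M N : X.Modules} (φ : M ⟶ N) [Epi φ] (h : Killed i M) : Killed i N := by
  intro U a ha x hx v
  obtain ⟨w, rfl⟩ := (ModuleCat.epi_iff_surjective ((St x).map φ)).1 inferInstance v
  rw [← map_smul, h U a ha x hx w, map_zero]

omit [IsLocallyNoetherian X] in
theorem killed_of_mono {M N : X.Modules} (φ : M ⟶ N) [Mono φ] (h : Killed i N) : Killed i M := by
  intro U a ha x hx v
  refine (ModuleCat.mono_iff_injective ((St x).map φ)).1 inferInstance ?_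
  rw [map_smul, h U a ha x hx, map_zero]

omit [IsLocallyNoetherian X] in
theorem killed_of_iso {M N : X.Modules} (e : M ≅ N) (h : Killed i M) : Killed i N :=
  killed_of_epi i e.hom h

omit [IsLocallyNoetherian X] in
theorem killed_isZero {M : X.Modules} (hM : IsZero M) : Killed i M := fun U a ha x hx v => by
  haveI := ModuleCat.subsingleton_of_isZero ((DerSch.stalkFunctor X x).map_isZero hM)
  exact Subsingleton.elim _ _

omit [IsLocallyNoetherian X] in
theorem killed_biprod {M N : X.Modules} (hM : Killed i M) (hN : Killed i N) : Killed i (M ⊞ N) := by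
  intro U a ha x hx v
  have e : v = (St x).map biprod.inl ((St x).map biprod.fst v) + (St x).map biprod.inr ((St x).map biprod.snd v) := by
    conv_lhs => rw [← Coherent.stalk_id_apply (M ⊞ N) v, ← biprod.total]
    rw [Coherent.stalk_add_apply, Coherent.stalk_comp_apply, Coherent.stalk_comp_apply]
  refine (congrArg (X.presheaf.germ U.1 x hx a • ·) e).trans ?_
  rw [smul_add, ← map_smul, hM U a ha x hx, ← map_smul, hN U a ha x hx, map_zero, map_zero, add_zero]

omit [IsLocallyNoetherian X] in
theorem killed_sigma {J : Type} (f : J → X.Modules) (hf : ∀ j, Killed i (f j)) : Killed i (∐ f) := by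
  intro U a ha x hx v
  have h : ModuleCat.ofHom (X.presheaf.germ U.1 x hx a • (LinearMap.id : (St x).obj (∐ f) →ₗ[X.presheaf.stalk x] _)) =
      (0 : (St x).obj (∐ f) ⟶ (St x).obj (∐ f)) := by
    refine stalk_sigma_hom_ext f x _ _ fun j => ?_
    ext w
    show X.presheaf.germ U.1 x hx a • (St x).map (Sigma.ι f j) w = 0
    rw [← map_smul, hf j U a ha x hx w, map_zero]
  exact ConcreteCategory.congr_hom h v

omit [IsLocallyNoetherian X] in
theorem killed_push [QuasiCompact i] (G : Z.Modules) : Killed i ((Coh.push i).obj G) :=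
  (killed_iff i _).2 (Coherent.killedByIdeal_of_mono i G (𝟙 _))

omit [IsLocallyNoetherian X] in
theorem support_subset_range [IsClosedImmersion i] {M : X.Modules} (h : Killed i M) :
    CohB1.support M ⊆ Set.range i := fun x hx => by
  by_contra hne
  exact hx (Coherent.subsingleton_stalk_of_killed i ((killed_iff i M).1 h) hne)

end Killed

end Groth.Agent.KZeroLib
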