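import Groth.Agent.KZeroLib.BddDevissage
import Groth.Agent.KZeroLib.PerfectCoh
import Groth.Agent.DRingLib.PCRegular
import Groth.Agent.AlgzPiLib.PiModule
import Groth.Agent.AmpleLib.CounitEpi
import Groth.Agent.Coherent.FinitePres
import Groth.Agent.AffSchLib.TildeExact
import Groth.Agent.Props12.TildeFin
import Mathlib

/-!
# On a regular locally Noetherian scheme coherent modules are perfect
-/

set_option autoImplicit false
set_option backward.isDefEq.respectTransparency false
universe u

open CategoryTheory CategoryTheory.Limits AlgebraicGeometry Groth.Agent.DCat Groth.Agent.DCat.PerfLocal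
  Groth.Agent.DCat.PerfTensor

attribute [local instance] HasDerivedCategory.standard

namespace Groth.Agent.KZeroLib

theorem isPerfect_inD_finLocFree {X : Scheme.{u}} {M : X.Modules} (hM : FlatMod.IsFinLocFree M) :
    DCoh.IsPerfect (DCoh.inD X M) := by
  refine (isPerfect_iff _).2 fun x => ⟨X, 𝟙 X, inferInstance, ⟨x, rfl⟩, ?_⟩
  refine ⟨(HomologicalComplex.single X.Modules (ComplexShape.up ℤ) 0).obj
    ((Scheme.Modules.restrictFunctor (𝟙 X)).obj M), ⟨⟨0, 0, fun i hi =>
      HomologicalComplex.isZero_single_obj_X _ _ _ _ (by omega)⟩, fun i => ?_⟩, ⟨?_⟩⟩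
  · by_cases hi : i = 0
    · subst hi
      exact isFinLocFree_of_iso (HomologicalComplex.singleObjXSelf (ComplexShape.up ℤ) 0 _).symm
        (isFinLocFree_of_iso ((Scheme.Modules.restrictFunctorIsoPullback (𝟙 X)).app M).symm
          (PullPerf.isFinLocFree_pullback (𝟙 X) hM))
    · exact isFinLocFree_of_isZero (HomologicalComplex.isZero_single_obj_X _ _ _ _ hi)
  · exact ((Scheme.Modules.restrictFunctor (𝟙 X)).mapDerivedCategorySingleFunctor 0).app M ≪≫
      (DerivedCategory.singleFunctorIsoCompQ X.Modules 0).app _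

theorem isPerfect_inD_tilde (R : CommRingCat.{u}) [IsNoetherianRing R] :
    ∀ (d : ℕ) (M : ModuleCat.{u} R) [Module.Finite R M], HasProjectiveDimensionLE M d →
      DCoh.IsPerfect (DCoh.inD (Spec R) (tilde M)) := by
  intro d
  induction d with
  | zero =>
    intro M _ h
    haveI : Projective M := projective_iff_hasProjectiveDimensionLT_one.2 h
    haveI : Module.Projective R M := (IsProjective.iff_projective (R := R) M).2 inferInstance
    exact isPerfect_inD_finLocFree ((Props12.isFinLocFree_tilde_iff M).2 ⟨‹_›, ‹_›⟩)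
  | succ d ih =>
    intro M _ h
    obtain ⟨r, f, hf⟩ := Module.Finite.exists_fin' R M
    haveI : IsNoetherian R (Fin r → R) := inferInstance
    let S : ShortComplex (ModuleCat.{u} R) := ShortComplex.mk (ModuleCat.ofHom (LinearMap.ker f).subtype)
      (ModuleCat.ofHom f) (ModuleCat.hom_ext (LinearMap.comp_ker_subtype f))
    have hS : S.ShortExact :=
      { exact := (ShortComplex.ShortExact.moduleCat_exact_iff_function_exact S).2 (LinearMap.exact_subtype_ker_map f)
        mono_f := (ModuleCat.mono_iff_injective _).2 (Submodule.injective_subtype _)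
        epi_g := (ModuleCat.epi_iff_surjective _).2 hf }
    haveI : Projective S.X₂ := (IsProjective.iff_projective (Fin r → R)).1 inferInstance
    have hk : HasProjectiveDimensionLE S.X₁ d := (hS.hasProjectiveDimensionLT_X₃_iff d inferInstance).1 h
    haveI : Module.Finite R S.X₁ := Module.Finite.of_fg (IsNoetherian.noetherian (LinearMap.ker f))
    haveI : Module.Finite R S.X₂ := inferInstanceAs (Module.Finite R (Fin r → R))
    haveI : Module.Projective R S.X₂ := inferInstanceAs (Module.Projective R (Fin r → R))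
    haveI := Groth.Agent.AffSchLib.preservesFiniteLimits_tilde R
    exact (DCat.PCTriangle.perfect_two_out_of_three
      (hS.map_of_exact (tilde.functor R)).singleTriangle_distinguished).1 (ih S.X₁ hk)
      (isPerfect_inD_finLocFree ((Props12.isFinLocFree_tilde_iff S.X₂).2 ⟨‹_›, ‹_›⟩))

theorem isRegularRing_of_spec (R : CommRingCat.{u}) [IsNoetherianRing R]
    (hreg : ∀ p : Spec R, IsRegularLocalRing ((Spec R).presheaf.stalk p)) : IsRegularRing R := by
  refine { isRegularLocalRing_localization := fun p hp => ?_ }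
  haveI := hreg ⟨p, hp⟩
  exact IsRegularLocalRing.of_ringEquiv (R := (Spec R).presheaf.stalk ⟨p, hp⟩)
    (StructureSheaf.stalkIso R (⟨p, hp⟩ : PrimeSpectrum R)).toRingEquiv.symm

theorem isPerfect_inD_of_isCoh {X : Scheme.{u}} [IsLocallyNoetherian X]
    (hreg : ∀ x : X, IsRegularLocalRing (X.presheaf.stalk x)) (G : X.Modules) (hG : Coh.IsCoh G) :
    DCoh.IsPerfect (DCoh.inD X G) := by
  refine (isPerfect_iff _).2 fun x => ?_
  obtain ⟨U, hU, hxU, -⟩ := exists_isAffineOpen_mem_and_subset (X := X) (x := x) (U := ⊤) trivial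
  haveI : IsNoetherianRing Γ(X, U) := IsLocallyNoetherian.component_noetherian ⟨U, hU⟩
  let k : Spec Γ(X, U) ⟶ X := hU.fromSpec
  haveI : IsLocallyNoetherian (Spec Γ(X, U)) := inferInstance
  obtain ⟨M, ⟨e⟩, hM⟩ := AlgzPiLib.exists_tilde_iso_of_isFP (G.restrict k)
    (Coherent.isFP_of_isCoh (AmpleLib.isCoh_restrict k G hG))
  have hregR : IsRegularRing Γ(X, U) := isRegularRing_of_spec _ fun p => by
    haveI := hreg (k p)
    exact IsRegularLocalRing.of_ringEquiv (asIso (k.stalkMap p)).commRingCatIsoToRingEquiv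
  obtain ⟨d, hd⟩ := Groth.Agent.S5165.result Γ(X, U) M
  refine isPerfect_of_rd (j := k) _ ?_ x (hU.opensRange_fromSpec.symm ▸ hxU)
  exact DCat.PCTriangle.perfect_iso
    ((DerivedCategory.singleFunctor _ 0).mapIso e ≪≫
      (((Scheme.Modules.restrictFunctor k).mapDerivedCategorySingleFunctor 0).app G).symm)
    (isPerfect_inD_tilde _ d M hd)

theorem isPerfect_iff_bounded_coh {X : Scheme.{u}} [IsNoetherian X]
    (hreg : ∀ x : X, IsRegularLocalRing (X.presheaf.stalk x)) (K : DCoh.D X) :
    DCoh.IsPerfect K ↔ DCoh.IsCohD K ∧ ∃ a b : ℤ, K.IsGE a ∧ K.IsLE b := by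
  refine ⟨fun h => ?_, fun h => ?_⟩
  · obtain ⟨hc, hb⟩ := hd_of_perfect h
    exact ⟨hc, hb⟩
  · exact isPerfect_of_bddWith (P := cohSupp X Set.univ)
      (fun G hG => isPerfect_inD_of_isCoh hreg G hG.1) ⟨fun i => ⟨h.1 i, Set.subset_univ _⟩, h.2⟩

end Groth.Agent.KZeroLib
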