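import Groth.Prelude.Def_KZero
import Groth.Agent.DCat.Trunc
import Groth.Agent.Resolution28.Basic
import Mathlib

/-!
# K₀ of a thick subcategory is K₀ of the bounded derived objects with cohomology in it
-/

set_option autoImplicit false
set_option backward.isDefEq.respectTransparency false
set_option backward.defeqAttrib.useBackward true

universe w v u

open CategoryTheory CategoryTheory.Limits CategoryTheory.Pretriangulated DerivedCategory ZeroObject

namespace Groth.Agent.KZeroLib

variable {C : Type u} [Category.{v} C] [Abelian C]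

section Sub

variable {P : ObjectProperty C} [P.IsClosedUnderIsomorphisms] [P.ContainsZero]

theorem prop_isZero {W : C} (hW : IsZero W) : P W := P.prop_of_isZero hW

theorem clSub_isZero {W : C} (hW : IsZero W) : KZero.clSub P W = 0 := by
  have hS : (ShortComplex.mk (𝟙 W) (0 : W ⟶ W) comp_zero).ShortExact :=
    ShortComplex.ShortExact.mk' (ShortComplex.exact_of_isZero_X₂ _ hW) inferInstance
      ⟨fun _ _ _ => hW.eq_of_src _ _⟩
  exact left_eq_add.1 (Resolution28.clSub_rel hS (prop_isZero hW) (prop_isZero hW) (prop_isZero hW))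

theorem clSub_iso {M N : C} (e : M ≅ N) : KZero.clSub P N = KZero.clSub P M := by
  by_cases hM : P M
  · obtain ⟨W, hW⟩ := HasZeroObject.zero (C := C)
    have hS : (ShortComplex.mk e.hom (0 : N ⟶ W) comp_zero).ShortExact :=
      ShortComplex.ShortExact.mk' ((ShortComplex.exact_iff_epi _ rfl).2 inferInstance) inferInstance
        ⟨fun _ _ _ => hW.eq_of_src _ _⟩
    rw [Resolution28.clSub_rel hS hM (P.prop_of_iso e hM) (prop_isZero hW)]
    show _ + KZero.clSub P W = _
    rw [clSub_isZero hW, add_zero]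
  · rw [KZero.clSub, KZero.clSub, dif_neg hM, dif_neg fun hN => hM (P.prop_of_iso e.symm hN)]

variable [P.IsClosedUnderKernels]

/-- The class of the middle term of an exact pair. -/
theorem clSub_exact {A B D : C} (f : A ⟶ B) (g : B ⟶ D) (w : f ≫ g = 0)
    (hex : (ShortComplex.mk f g w).Exact) (hA : P A) (hB : P B) (hD : P D) :
    KZero.clSub P A = KZero.clSub P (kernel f) + KZero.clSub P (kernel g) := by
  let l : A ⟶ kernel g := kernel.lift g f w
  have : Epi l := (ShortComplex.exact_iff_epi_kernel_lift _).1 hex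
  have hl : l ≫ kernel.ι g = f := kernel.lift_ι _ _ _
  have hz : kernel.ι f ≫ l = 0 := by
    rw [← cancel_mono (kernel.ι g), Category.assoc, hl, kernel.condition, zero_comp]
  have hS : (ShortComplex.mk (kernel.ι f) l hz).ShortExact := by
    refine ShortComplex.ShortExact.mk' (ShortComplex.exact_of_f_is_kernel _ ?_) inferInstance ‹_›
    refine KernelFork.IsLimit.ofι' (kernel.ι f) hz fun k hk => ⟨kernel.lift f k ?_, kernel.lift_ι _ _ _⟩
    show k ≫ f = 0
    rw [← hl, ← Category.assoc, hk, zero_comp]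
  exact Resolution28.clSub_rel hS (P.prop_kernel f hA hB) hA (P.prop_kernel g hB hD)

end Sub

section Derived

variable [HasDerivedCategory.{w} C] {P : ObjectProperty C}

/-- Bounded objects with cohomology in `P`. -/
def BddWith (P : ObjectProperty C) (K : DerivedCategory C) : Prop :=
  (∀ i : ℤ, P ((homologyFunctor C i).obj K)) ∧ ∃ a b : ℤ, K.IsGE a ∧ K.IsLE b

noncomputable def sgn (i : ℤ) : ℤ := (i.negOnePow : ℤ)

theorem sgn_succ (i : ℤ) : sgn (i + 1) = - sgn i := by
  simp [sgn, Int.negOnePow_succ]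

/-- The Euler characteristic of the cohomology. -/
noncomputable def chi (P : ObjectProperty C) (K : DerivedCategory C) : KZero.K0sub P :=
  ∑ᶠ i : ℤ, sgn i • KZero.clSub P ((homologyFunctor C i).obj K)

variable [P.IsClosedUnderIsomorphisms] [P.ContainsZero]

theorem support_finite (K : DerivedCategory C) (hb : ∃ a b : ℤ, K.IsGE a ∧ K.IsLE b) :
    (Function.support fun i : ℤ => sgn i • KZero.clSub P ((homologyFunctor C i).obj K)).Finite := by
  obtain ⟨a, b, ha, hb⟩ := hb
  refine (Set.finite_Icc a b).subset fun i hi => ?_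
  by_contra h
  rw [Set.mem_Icc, not_and_or, not_le, not_le] at h
  refine hi ?_
  show sgn i • KZero.clSub P ((homologyFunctor C i).obj K) = 0
  have hz : IsZero ((homologyFunctor C i).obj K) := h.elim (fun h' => isZero_of_isGE K a i h') (fun h' => isZero_of_isLE K b i h')
  rw [clSub_isZero hz, smul_zero]

theorem isZero_single (X : C) (n i : ℤ) (h : i ≠ n) :
    IsZero ((homologyFunctor C i).obj ((singleFunctor C n).obj X)) := by
  rcases lt_or_gt_of_ne h with h | h
  · exact isZero_of_isGE _ n i h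
  · exact isZero_of_isLE _ n i h

theorem chi_single (X : C) : chi P ((singleFunctor C 0).obj X) = KZero.clSub P X := by
  rw [chi, finsum_eq_single _ 0 fun i hi => by rw [clSub_isZero (isZero_single X 0 i hi), smul_zero]]
  rw [show sgn 0 = 1 by simp [sgn], one_smul]
  exact (clSub_iso ((singleFunctorCompHomologyFunctorIso C 0).app X)).symm

theorem bddWith_single {X : C} (hX : P X) (n : ℤ) : BddWith P ((singleFunctor C n).obj X) := by
  refine ⟨fun i => ?_, n, n, inferInstance, inferInstance⟩
  by_cases h : i = n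
  · subst h
    exact P.prop_of_iso ((singleFunctorCompHomologyFunctorIso C i).app X).symm hX
  · exact prop_isZero (isZero_single X n i h)

variable [P.IsClosedUnderKernels]

theorem chi_triangle (T : Triangle (DerivedCategory C)) (hT : T ∈ distTriang (DerivedCategory C))
    (h₁ : BddWith P T.obj₁) (h₂ : BddWith P T.obj₂) (h₃ : BddWith P T.obj₃) :
    chi P T.obj₂ = chi P T.obj₁ + chi P T.obj₃ := by
  let u : ℤ → KZero.K0sub P := fun i => KZero.clSub P (kernel ((homologyFunctor C i).map T.mor₁))
  let v : ℤ → KZero.K0sub P := fun i => KZero.clSub P (kernel ((homologyFunctor C i).map T.mor₂))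
  let z : ℤ → KZero.K0sub P := fun i => KZero.clSub P (kernel (HomologySequence.δ T i (i + 1) rfl))
  have e₁ : ∀ i, KZero.clSub P ((homologyFunctor C i).obj T.obj₁) = u i + v i := fun i =>
    clSub_exact _ _ _ (HomologySequence.exact₂ T hT i) (h₁.1 i) (h₂.1 i) (h₃.1 i)
  have e₂ : ∀ i, KZero.clSub P ((homologyFunctor C i).obj T.obj₂) = v i + z i := fun i =>
    clSub_exact _ _ _ (HomologySequence.exact₃ T hT i (i + 1) rfl) (h₂.1 i) (h₃.1 i) (h₁.1 (i + 1))
  have e₃ : ∀ i, KZero.clSub P ((homologyFunctor C i).obj T.obj₃) = z i + u (i + 1) := fun i =>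
    clSub_exact _ _ _ (HomologySequence.exact₁ T hT i (i + 1) rfl) (h₃.1 i) (h₁.1 (i + 1)) (h₂.1 (i + 1))
  have hu : (Function.support fun i => sgn i • u i).Finite := by
    obtain ⟨a, b, ha, hb⟩ := h₁.2
    refine (Set.finite_Icc a b).subset fun i hi => ?_
    by_contra h
    rw [Set.mem_Icc, not_and_or, not_le, not_le] at h
    refine hi ?_
    show sgn i • u i = 0
    have hz : IsZero ((homologyFunctor C i).obj T.obj₁) :=
      h.elim (fun h' => isZero_of_isGE T.obj₁ a i h') (fun h' => isZero_of_isLE T.obj₁ b i h')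
    have hk : IsZero (kernel ((homologyFunctor C i).map T.mor₁)) :=
      IsZero.of_mono (kernel.ι _) hz
    show sgn i • KZero.clSub P _ = 0
    rw [clSub_isZero hk, smul_zero]
  have hu' : (Function.support fun i => sgn (i + 1) • u (i + 1)).Finite :=
    hu.preimage (f := fun i => i + 1) (fun a _ b _ h => add_right_cancel h)
  have hsum : ∀ i, sgn i • KZero.clSub P ((homologyFunctor C i).obj T.obj₁) +
      sgn i • KZero.clSub P ((homologyFunctor C i).obj T.obj₃) -
      sgn i • KZero.clSub P ((homologyFunctor C i).obj T.obj₂) = sgn i • u i - sgn (i + 1) • u (i + 1) := by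
    intro i
    rw [e₁ i, e₂ i, e₃ i, sgn_succ, neg_smul, sub_neg_eq_add]
    simp only [smul_add]
    abel
  symm
  rw [← sub_eq_zero, chi, chi, chi, ← finsum_add_distrib (support_finite _ h₁.2) (support_finite _ h₃.2),
    ← finsum_sub_distrib (((support_finite _ h₁.2).union (support_finite _ h₃.2)).subset
      (Function.support_add _ _)) (support_finite _ h₂.2), finsum_congr hsum,
    finsum_sub_distrib hu hu', sub_eq_zero]
  exact (finsum_comp_equiv (Equiv.addRight (1 : ℤ))).symm

end Derived

section Main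

variable [HasDerivedCategory.{w} C] {P : ObjectProperty C} [P.IsClosedUnderIsomorphisms]
  [P.ContainsZero] [P.IsClosedUnderKernels] {Q : ObjectProperty (DerivedCategory C)}
  (hQ : ∀ K, Q K ↔ BddWith P K)

include hQ

theorem clTr_rel {T : Triangle (DerivedCategory C)} (hT : T ∈ distTriang (DerivedCategory C))
    (h₁ : BddWith P T.obj₁) (h₂ : BddWith P T.obj₂) (h₃ : BddWith P T.obj₃) :
    KZero.clTr Q T.obj₂ = KZero.clTr Q T.obj₁ + KZero.clTr Q T.obj₃ := by
  rw [KZero.clTr, KZero.clTr, KZero.clTr, dif_pos ((hQ _).2 h₁), dif_pos ((hQ _).2 h₂), dif_pos ((hQ _).2 h₃)]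
  erw [← QuotientAddGroup.mk_add, QuotientAddGroup.eq]
  refine AddSubgroup.neg_mem_iff (KZero.relTr Q) |>.mp
    (AddSubgroup.subset_closure ⟨T, (hQ _).2 h₁, (hQ _).2 h₂, (hQ _).2 h₃, hT, ?_⟩)
  abel

theorem bddWith_of_isZero {W : DerivedCategory C} (hW : IsZero W) : BddWith P W :=
  ⟨fun i => prop_isZero (Functor.map_isZero _ hW), 0, 0,
    TStructure.t.isGE_of_isZero hW 0, TStructure.t.isLE_of_isZero hW 0⟩

theorem clTr_isZero {W : DerivedCategory C} (hW : IsZero W) : KZero.clTr Q W = 0 := by
  have hb := bddWith_of_isZero hQ hW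
  have hT : Triangle.mk (𝟙 W) (0 : W ⟶ W) (0 : W ⟶ W⟦(1 : ℤ)⟧) ∈ distTriang (DerivedCategory C) := by
    refine isomorphic_distinguished _ (contractible_distinguished W) _ (Triangle.isoMk _ _ (Iso.refl _) (Iso.refl _) ?_ ?_ ?_ ?_)
    · exact hW.iso (isZero_zero _)
    · simp
    · exact (isZero_zero _).eq_of_tgt _ _
    · exact hW.eq_of_src _ _
  exact left_eq_add.1 (clTr_rel hQ hT hb hb hb)

theorem clTr_iso {K L : DerivedCategory C} (e : K ≅ L) : KZero.clTr Q L = KZero.clTr Q K := by
  by_cases hK : BddWith P K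
  · have hL : BddWith P L := by
      obtain ⟨h, a, b, ha, hb⟩ := hK
      exact ⟨fun i => P.prop_of_iso ((homologyFunctor C i).mapIso e) (h i), a, b,
        TStructure.t.isGE_of_iso e a, TStructure.t.isLE_of_iso e b⟩
    have hT : Triangle.mk e.hom (0 : L ⟶ 0) (0 : (0 : DerivedCategory C) ⟶ K⟦(1 : ℤ)⟧) ∈
        distTriang (DerivedCategory C) := by
      refine isomorphic_distinguished _ (contractible_distinguished K) _
        (Triangle.isoMk _ _ (Iso.refl _) e.symm (Iso.refl _) ?_ ?_ ?_) <;> simp
    have h := clTr_rel hQ hT hK hL (bddWith_of_isZero hQ (isZero_zero _))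
    change KZero.clTr Q L = KZero.clTr Q K + KZero.clTr Q 0 at h
    rw [h, clTr_isZero hQ (isZero_zero _), add_zero]
  · rw [KZero.clTr, KZero.clTr, dif_neg fun h => hK ((hQ _).1 h), dif_neg fun h => ?_]
    obtain ⟨h, a, b, ha, hb⟩ := (hQ _).1 h
    exact hK ⟨fun i => P.prop_of_iso ((homologyFunctor C i).mapIso e.symm) (h i), a, b,
      TStructure.t.isGE_of_iso e.symm a, TStructure.t.isLE_of_iso e.symm b⟩

theorem clTr_single {X : C} (hX : P X) :
    ∀ n : ℤ, KZero.clTr Q ((singleFunctor C n).obj X) = sgn n • KZero.clTr Q ((singleFunctor C 0).obj X) := by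
  have step : ∀ n : ℤ, KZero.clTr Q ((singleFunctor C n).obj X) =
      - KZero.clTr Q ((singleFunctor C (n + 1)).obj X) := by
    intro n
    let e : ((singleFunctor C (n + 1)).obj X)⟦(1 : ℤ)⟧ ≅ (singleFunctor C n).obj X :=
      ((singleFunctors C).shiftIso 1 n (n + 1) (by omega)).app X
    have h2 : BddWith P (((singleFunctor C (n + 1)).obj X)⟦(1 : ℤ)⟧) := by
      obtain ⟨h, a, b, ha, hb⟩ := bddWith_single (P := P) hX n
      exact ⟨fun i => P.prop_of_iso ((homologyFunctor C i).mapIso e.symm) (h i), a, b,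
        TStructure.t.isGE_of_iso e.symm a, TStructure.t.isLE_of_iso e.symm b⟩
    have h := clTr_rel hQ (contractible_distinguished₂ ((singleFunctor C (n + 1)).obj X))
      (bddWith_single hX _) (bddWith_of_isZero hQ (isZero_zero _)) h2
    change KZero.clTr Q 0 = KZero.clTr Q ((singleFunctor C (n + 1)).obj X) + KZero.clTr Q _ at h
    rw [clTr_isZero hQ (isZero_zero _)] at h
    rw [clTr_iso hQ e]
    exact eq_neg_of_add_eq_zero_right h.symm
  intro n
  induction n with
  | zero => simp [sgn]
  | succ k ih =>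
    rw [sgn_succ, neg_smul, ← ih, step k, neg_neg]
  | pred k ih =>
    have h := step (-(k : ℤ) - 1)
    rw [sub_add_cancel, ih] at h
    have hs : sgn (-(k : ℤ)) = - sgn (-(k : ℤ) - 1) := by
      rw [← sgn_succ, sub_add_cancel]
    rw [h, hs, neg_smul, neg_neg]

variable [P.IsClosedUnderCokernels] [P.IsClosedUnderExtensions]

theorem bddWith_truncLT {K : DerivedCategory C} (hK : BddWith P K) (n : ℤ) :
    BddWith P ((TStructure.t.truncLT n).obj K) ∧ BddWith P ((TStructure.t.truncGE n).obj K) := by
  obtain ⟨hP, a, b, ha, hb⟩ := hK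
  let T := (TStructure.t.triangleLTGE n).obj K
  have hT : T ∈ distTriang (DerivedCategory C) := TStructure.t.triangleLTGE_distinguished n K
  have hLE : T.obj₁.IsLE (n - 1) := TStructure.t.isLE_truncLT_obj _ _ _ (by omega)
  have hGE : T.obj₃.IsGE n := inferInstanceAs (TStructure.t.IsGE ((TStructure.t.truncGE n).obj K) n)
  have isoLT : ∀ i, i < n → IsIso ((homologyFunctor C i).map T.mor₁) := fun i hi => by
    have h1 : Mono ((homologyFunctor C i).map T.mor₁) := DCat.mono_homology_truncLTι K n i
    have h2 : Epi ((homologyFunctor C i).map T.mor₁) :=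
      (HomologySequence.epi_homologyMap_mor₁_iff _ hT i).2 ((isZero_of_isGE T.obj₃ n i hi).eq_of_tgt _ _)
    exact isIso_of_mono_of_epi _
  have isoGE : ∀ i, n ≤ i → IsIso ((homologyFunctor C i).map T.mor₂) := fun i hi => by
    have h1 : Epi ((homologyFunctor C i).map T.mor₂) := DCat.epi_homology_truncGEπ K n i
    have h2 : Mono ((homologyFunctor C i).map T.mor₂) :=
      (HomologySequence.mono_homologyMap_mor₂_iff _ hT i).2
        ((isZero_of_isLE T.obj₁ (n - 1) i (by omega)).eq_of_src _ _)
    exact isIso_of_mono_of_epi _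
  refine ⟨⟨fun i => ?_, a, n - 1, inferInstanceAs (TStructure.t.IsGE ((TStructure.t.truncLT n).obj K) a), hLE⟩,
    ⟨fun i => ?_, n, b, hGE, inferInstanceAs (TStructure.t.IsLE ((TStructure.t.truncGE n).obj K) b)⟩⟩
  · by_cases hi : i < n
    · have := isoLT i hi
      exact P.prop_of_iso (asIso ((homologyFunctor C i).map T.mor₁)).symm (hP i)
    · exact prop_isZero (isZero_of_isLE T.obj₁ (n - 1) i (by omega))
  · by_cases hi : n ≤ i
    · have := isoGE i hi
      exact P.prop_of_iso (asIso ((homologyFunctor C i).map T.mor₂)) (hP i)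
    · exact prop_isZero (isZero_of_isGE T.obj₃ n i (by omega))

/-- The classes of the objects of `P` generate. -/
theorem mem_range {G : Type _} [AddCommGroup G] (f : G →+ KZero.K0tr Q)
    (hf : ∀ X, P X → KZero.clTr Q ((singleFunctor C 0).obj X) ∈ f.range) :
    ∀ (m : ℕ) (a : ℤ) (K : DerivedCategory C), BddWith P K → K.IsGE a → K.IsLE (a + m) →
      KZero.clTr Q K ∈ f.range := by
  intro m
  induction m with
  | zero =>
    intro a K hK ha hb
    have : K.IsLE a := by simpa using hb
    obtain ⟨M, ⟨e⟩⟩ := exists_iso_singleFunctor_obj_of_isGE_of_isLE K a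
    have hM : P M := P.prop_of_iso
      ((homologyFunctor C a).mapIso e ≪≫ (singleFunctorCompHomologyFunctorIso C a).app M) (hK.1 a)
    rw [← clTr_iso hQ e, clTr_single hQ hM]
    exact AddSubgroup.zsmul_mem _ (hf M hM) _
  | succ m ih =>
    intro a K hK ha hb
    let n : ℤ := a + (m + 1 : ℕ)
    obtain ⟨h1, h3⟩ := bddWith_truncLT hQ hK n
    have := clTr_rel hQ (TStructure.t.triangleLTGE_distinguished n K) h1 hK h3
    change KZero.clTr Q K = _ at this
    rw [this]
    refine add_mem (ih a _ h1 (inferInstanceAs (TStructure.t.IsGE ((TStructure.t.truncLT n).obj K) a))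
      (TStructure.t.isLE_truncLT_obj _ _ _ (by omega))) ?_
    have hge : ((TStructure.t.truncGE n).obj K).IsGE n := inferInstanceAs (TStructure.t.IsGE _ n)
    have hle : ((TStructure.t.truncGE n).obj K).IsLE n :=
      inferInstanceAs (TStructure.t.IsLE ((TStructure.t.truncGE n).obj K) n)
    obtain ⟨M, ⟨e⟩⟩ := exists_iso_singleFunctor_obj_of_isGE_of_isLE ((TStructure.t.truncGE n).obj K) n
    have hM : P M := P.prop_of_iso
      ((homologyFunctor C n).mapIso e ≪≫ (singleFunctorCompHomologyFunctorIso C n).app M) (h3.1 n)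
    change KZero.clTr Q ((TStructure.t.truncGE n).obj K) ∈ _
    rw [← clTr_iso hQ e, clTr_single hQ hM]
    exact AddSubgroup.zsmul_mem _ (hf M hM) _

theorem exists_equiv :
    ∃ φ : KZero.K0sub P ≃+ KZero.K0tr Q,
      ∀ X : C, P X → φ (KZero.clSub P X) = KZero.clTr Q ((singleFunctor C 0).obj X) := by
  let f₀ : FreeAbelianGroup (Subtype P) →+ KZero.K0tr Q :=
    FreeAbelianGroup.lift fun X => KZero.clTr Q ((singleFunctor C 0).obj X.1)
  have hf₀ : KZero.relSub P ≤ f₀.ker := by
    refine (AddSubgroup.closure_le _).2 ?_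
    rintro x ⟨S, h₁, h₂, h₃, hS, rfl⟩
    simp only [SetLike.mem_coe, AddMonoidHom.mem_ker, map_sub, f₀, FreeAbelianGroup.lift_apply_of]
    have h : KZero.clTr Q ((singleFunctor C 0).obj S.X₂) =
        KZero.clTr Q ((singleFunctor C 0).obj S.X₁) + KZero.clTr Q ((singleFunctor C 0).obj S.X₃) :=
      clTr_rel hQ hS.singleTriangle_distinguished (bddWith_single h₁ 0) (bddWith_single h₂ 0) (bddWith_single h₃ 0)
    rw [h]; abel
  let f : KZero.K0sub P →+ KZero.K0tr Q := QuotientAddGroup.lift _ f₀ hf₀
  let g₀ : FreeAbelianGroup (Subtype Q) →+ KZero.K0sub P := FreeAbelianGroup.lift fun K => chi P K.1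
  have hg₀ : KZero.relTr Q ≤ g₀.ker := by
    refine (AddSubgroup.closure_le _).2 ?_
    rintro x ⟨T, h₁, h₂, h₃, hT, rfl⟩
    simp only [SetLike.mem_coe, AddMonoidHom.mem_ker, map_sub, g₀, FreeAbelianGroup.lift_apply_of]
    rw [chi_triangle T hT ((hQ _).1 h₁) ((hQ _).1 h₂) ((hQ _).1 h₃)]; abel
  let g : KZero.K0tr Q →+ KZero.K0sub P := QuotientAddGroup.lift _ g₀ hg₀
  have hf : ∀ X, P X → f (KZero.clSub P X) = KZero.clTr Q ((singleFunctor C 0).obj X) := fun X hX => by
    rw [KZero.clSub, dif_pos hX]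
    exact FreeAbelianGroup.lift_apply_of _ _
  have hgf : ∀ x, g (f x) = x := by
    intro x
    obtain ⟨z, rfl⟩ := QuotientAddGroup.mk_surjective x
    induction z using FreeAbelianGroup.induction_on with
    | zero => simp
    | of X =>
      have hX : (QuotientAddGroup.mk (FreeAbelianGroup.of X) : KZero.K0sub P) = KZero.clSub P X.1 := by
        rw [KZero.clSub, dif_pos X.2]
      rw [hX, hf _ X.2, KZero.clTr, dif_pos ((hQ _).2 (bddWith_single X.2 0))]
      exact (FreeAbelianGroup.lift_apply_of _ _).trans (chi_single X.1)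
    | neg X h => simp only [QuotientAddGroup.mk_neg, map_neg, h]
    | add a b ha hb => simp only [QuotientAddGroup.mk_add, map_add, ha, hb]
  have hsurj : Function.Surjective f := by
    intro y
    suffices y ∈ f.range from this
    obtain ⟨z, rfl⟩ := QuotientAddGroup.mk_surjective y
    induction z using FreeAbelianGroup.induction_on with
    | zero => exact zero_mem _
    | of K =>
      obtain ⟨K, hK⟩ := K
      obtain ⟨hP, a, b, ha, hb⟩ := (hQ _).1 hK
      have hb' : K.IsLE (a + ((b - a).toNat : ℤ)) := TStructure.t.isLE_of_le K b _ (by omega)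
      have := mem_range hQ f (fun X hX => ⟨_, hf X hX⟩) (b - a).toNat a K ⟨hP, a, b, ha, hb⟩ ha hb'
      rwa [KZero.clTr, dif_pos hK] at this
    | neg X h => exact neg_mem h
    | add a b ha hb => exact add_mem ha hb
  exact ⟨AddEquiv.ofBijective f ⟨Function.LeftInverse.injective hgf, hsurj⟩, hf⟩

end Main

end Groth.Agent.KZeroLib
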