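import Groth.Agent.KZeroLib.Adic
import Groth.Agent.Coherent.FinitePres
import Groth.Agent.Coherent.RpushComp
import Groth.Agent.Coherent.DevissageIdeal
import Mathlib

/-!
# `K₀` of coherent modules on a closed subscheme and of coherent modules supported on it
-/

set_option autoImplicit false
set_option backward.isDefEq.respectTransparency.types false
universe u

open scoped ZeroObject
open CategoryTheory CategoryTheory.Limits AlgebraicGeometry TopologicalSpace Groth.Agent.Resolution28
  Groth.Agent.Coherent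

namespace Groth.Agent.KZeroLib

variable {X Z : Scheme.{u}} [IsLocallyNoetherian X] (i : Z ⟶ X) [IsClosedImmersion i]

/-- Coherent modules on the closed subscheme. -/
def cohZ : ObjectProperty Z.Modules := fun F => Coh.IsCoh F

theorem cohZ_noetherian (j : Z ⟶ X) [IsClosedImmersion j] : IsLocallyNoetherian Z :=
  LocallyOfFiniteType.isLocallyNoetherian j

instance [IsLocallyNoetherian Z] : (cohZ (Z := Z)).IsClosedUnderIsomorphisms where
  of_iso e h := Coherent.isCoh_iso e h

instance [IsLocallyNoetherian Z] : (cohZ (Z := Z)).ContainsZero where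
  exists_zero := ⟨0, isZero_zero _, isCoh_isZero (isZero_zero _)⟩

theorem prop_push {F : Z.Modules} (hF : Coh.IsCoh F) : killedCoh i ((Coh.push i).obj F) :=
  haveI := cohZ_noetherian i
  ⟨Coherent.isCoh_push_finite i hF, killed_push i F⟩

theorem cohSupp_of_killedCoh {M : X.Modules} (hM : killedCoh i M) : cohSupp X (Set.range i) M :=
  ⟨hM.1, support_subset_range i hM.2⟩

theorem isIso_counit (F : Z.Modules) :
    IsIso ((Scheme.Modules.pullbackPushforwardAdjunction i).counit.app F) := by
  let ad := Scheme.Modules.pullbackPushforwardAdjunction i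
  haveI := Coherent.isIso_clUnit i ((killed_iff i _).1 (killed_push i F))
  have h : clUnit i ((Coh.push i).obj F) ≫ (Coh.push i).map (ad.counit.app F) = 𝟙 _ :=
    ad.right_triangle_components F
  haveI : IsIso ((Coh.push i).map (ad.counit.app F)) := by
    rw [← IsIso.inv_eq_of_hom_inv_id h]; infer_instance
  haveI : Mono (ad.counit.app F) := (Coh.push i).mono_of_mono_map inferInstance
  haveI : Epi (ad.counit.app F) := (Coh.push i).epi_of_epi_map inferInstance
  exact isIso_of_mono_of_epi _

/-- The pieces `M, 0, 0, …`. -/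
noncomputable def trivF (M : X.Modules) : ℕ → X.Modules
  | 0 => M
  | _ + 1 => 0

/-- Their inclusions. -/
noncomputable def trivι (M : X.Modules) : ∀ n, trivF M n ⟶ M
  | 0 => 𝟙 M
  | _ + 1 => 0

omit [IsLocallyNoetherian X] in
theorem mono_trivι (M : X.Modules) : ∀ n, Mono (trivι M n)
  | 0 => inferInstanceAs (Mono (𝟙 M))
  | _ + 1 => (isZero_zero X.Modules).mono _

omit [IsLocallyNoetherian X] in
theorem coh_trivF {M : X.Modules} (hM : Coh.IsCoh M) : ∀ n, Coh.IsCoh (trivF M n)
  | 0 => hM
  | _ + 1 => isCoh_isZero (isZero_zero _)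

omit [IsLocallyNoetherian X] [IsClosedImmersion i] in
theorem killed_trivF {M : X.Modules} (hM : Killed i M) : ∀ n, Killed i (trivF M n)
  | 0 => hM
  | _ + 1 => killed_isZero i (isZero_zero _)

omit [IsLocallyNoetherian X] in
theorem lf_trivF (M : X.Modules) : LocallyFinite fun n => CohB1.support (trivF M n) := fun x =>
  ⟨Set.univ, Filter.univ_mem, (Set.finite_singleton 0).subset fun n hn => by
    obtain ⟨z, hz, -⟩ := hn
    rcases n with _ | n
    · rfl
    · exact absurd (support_isZero ∅ (isZero_zero X.Modules) hz) (Set.notMem_empty z)⟩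

/-- A killed module as a filtration of itself. -/
noncomputable def trivialTower {M : X.Modules} (hM : killedCoh i M) : Tower i M where
  F := trivF M
  ι := trivι M
  d _ := 0
  w _ := (isZero_zero X.Modules).eq_of_src _ _
  mono := mono_trivι M
  iso_zero := inferInstanceAs (IsIso (𝟙 M))
  coh := coh_trivF hM.1
  lf := lf_trivF M
  killed n := killed_of_epi i (cokernel.π _) (killed_trivF i hM.2 n)

theorem clSub_grSum_killed {M : X.Modules} (hM : killedCoh i M) (T : Tower i M) :
    KZero.clSub (killedCoh i) T.grSum = KZero.clSub (killedCoh i) M := by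
  rw [grSum_eq hM.1 T (trivialTower i hM)]
  let T₀ := trivialTower i hM
  let e : PUnit.{1} ⊕ ℕ ≃ ℕ :=
    { toFun := fun s => match s with
        | .inl _ => 0
        | .inr n => n + 1
      invFun := fun n => match n with
        | 0 => .inl ⟨⟩
        | n + 1 => .inr n
      left_inv := fun s => by rcases s with _ | n <;> rfl
      right_inv := fun n => by cases n <;> rfl }
  obtain ⟨a, b, w, hs⟩ := sum_shortExact e fun n => cokernel (T₀.d n)
  have hz : ∀ n : ℕ, IsZero (cokernel (T₀.d (n + 1))) := fun n => by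
    refine (IsZero.iff_id_eq_zero _).2 (coequalizer.hom_ext ?_)
    exact (isZero_zero X.Modules).eq_of_src _ _
  have hz' : IsZero (∐ fun l : ℕ => cokernel (T₀.d (e (.inr l)))) :=
    (IsZero.iff_id_eq_zero _).2 (Limits.Sigma.hom_ext _ _ fun l => (hz l).eq_of_src _ _)
  let e0 : (∐ fun k : PUnit.{1} => cokernel (T₀.d (e (.inl k)))) ≅ M :=
    coproductUniqueIso (fun k : PUnit.{1} => cokernel (T₀.d (e (.inl k)))) ≪≫
      cokernelZeroIsoTarget
  have E := clSub_rel hs ((killedCoh i).prop_of_iso e0.symm hM) T₀.prop_grSum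
    ((killedCoh i).prop_of_isZero hz')
  rw [clSub_isZero hz', add_zero, ← clSub_iso e0] at E
  exact E

theorem prop_pullback {M : X.Modules} (hM : killedCoh i M) :
    Coh.IsCoh ((Scheme.Modules.pullback i).obj M) :=
  Coherent.isCoh_pullback_of_killed i ((killed_iff i M).1 hM.2) hM.1

theorem shortExact_pullback {S : ShortComplex X.Modules} (hS : S.ShortExact) (h₁ : Killed i S.X₁)
    (h₂ : Killed i S.X₂) (h₃ : Killed i S.X₃) : (S.map (Scheme.Modules.pullback i)).ShortExact := by
  haveI : (Scheme.Modules.pullback i).PreservesZeroMorphisms :=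
    haveI := (Scheme.Modules.pullbackPushforwardAdjunction i).isLeftAdjoint
    inferInstance
  refine CategoryTheory.ShortExact.reflects_shortExact_of_faithful (Coh.push i) ?_
  refine ShortComplex.shortExact_of_iso ?_ hS
  refine ShortComplex.isoMk (clIso i ((killed_iff i _).1 h₁)) (clIso i ((killed_iff i _).1 h₂))
    (clIso i ((killed_iff i _).1 h₃)) ?_ ?_
  · exact ((Scheme.Modules.pullbackPushforwardAdjunction i).unit.naturality S.f).symm
  · exact ((Scheme.Modules.pullbackPushforwardAdjunction i).unit.naturality S.g).symm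

theorem exists_equiv_closed :
    ∃ φ : KZero.K0sub (cohZ (Z := Z)) ≃+ KZero.K0sub (cohSupp X (Set.range i)),
      ∀ F : Z.Modules, Coh.IsCoh F →
        φ (KZero.clSub cohZ F) = KZero.clSub (cohSupp X (Set.range i)) ((Coh.push i).obj F) := by
  classical
  -- the push forward
  let f₀ : FreeAbelianGroup (Subtype (cohZ (Z := Z))) →+ KZero.K0sub (cohSupp X (Set.range i)) :=
    FreeAbelianGroup.lift fun F => KZero.clSub _ ((Coh.push i).obj F.1)
  have hf₀ : KZero.relSub (cohZ (Z := Z)) ≤ f₀.ker := by
    rw [KZero.relSub, AddSubgroup.closure_le]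
    rintro _ ⟨S, h₁, h₂, h₃, hS, rfl⟩
    have e : KZero.clSub (cohSupp X (Set.range i)) ((Coh.push i).obj S.X₂) =
        KZero.clSub _ ((Coh.push i).obj S.X₁) + KZero.clSub _ ((Coh.push i).obj S.X₃) :=
      clSub_rel (hS.map_of_exact (Coh.push i)) (cohSupp_of_killedCoh i (prop_push i h₁))
      (cohSupp_of_killedCoh i (prop_push i h₂)) (cohSupp_of_killedCoh i (prop_push i h₃))
    rw [SetLike.mem_coe, AddMonoidHom.mem_ker, map_sub, map_sub, FreeAbelianGroup.lift_apply_of,
      FreeAbelianGroup.lift_apply_of, FreeAbelianGroup.lift_apply_of]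
    dsimp only
    rw [e]
    abel
  let f : KZero.K0sub (cohZ (Z := Z)) →+ KZero.K0sub (cohSupp X (Set.range i)) := QuotientAddGroup.lift _ f₀ hf₀
  -- killed modules to modules on the closed subscheme
  let c₀ : FreeAbelianGroup (Subtype (killedCoh i)) →+ KZero.K0sub (cohZ (Z := Z)) :=
    FreeAbelianGroup.lift fun M => KZero.clSub cohZ ((Scheme.Modules.pullback i).obj M.1)
  have hc₀ : KZero.relSub (killedCoh i) ≤ c₀.ker := by
    rw [KZero.relSub, AddSubgroup.closure_le]
    rintro _ ⟨S, h₁, h₂, h₃, hS, rfl⟩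
    haveI : (Scheme.Modules.pullback i).PreservesZeroMorphisms :=
      haveI := (Scheme.Modules.pullbackPushforwardAdjunction i).isLeftAdjoint
      inferInstance
    have e : KZero.clSub (cohZ (Z := Z)) ((Scheme.Modules.pullback i).obj S.X₂) =
        KZero.clSub _ ((Scheme.Modules.pullback i).obj S.X₁) +
          KZero.clSub _ ((Scheme.Modules.pullback i).obj S.X₃) := clSub_rel (P := cohZ) (shortExact_pullback i hS h₁.2 h₂.2 h₃.2) (prop_pullback i h₁)
      (prop_pullback i h₂) (prop_pullback i h₃)
    rw [SetLike.mem_coe, AddMonoidHom.mem_ker, map_sub, map_sub, FreeAbelianGroup.lift_apply_of,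
      FreeAbelianGroup.lift_apply_of, FreeAbelianGroup.lift_apply_of]
    dsimp only
    rw [e]
    abel
  let c : KZero.K0sub (killedCoh i) →+ KZero.K0sub (cohZ (Z := Z)) := QuotientAddGroup.lift _ c₀ hc₀
  have hcl : ∀ M, killedCoh i M → c (KZero.clSub _ M) = KZero.clSub cohZ ((Scheme.Modules.pullback i).obj M) :=
    fun M hM => by
      rw [KZero.clSub, dif_pos hM]
      exact FreeAbelianGroup.lift_apply_of _ _
  -- the inverse
  let g₀ : FreeAbelianGroup (Subtype (cohSupp X (Set.range i))) →+ KZero.K0sub (cohZ (Z := Z)) :=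
    FreeAbelianGroup.lift fun G => c (KZero.clSub _ (adicTower i G.2.1 G.2.2).grSum)
  have hg₀ : KZero.relSub (cohSupp X (Set.range i)) ≤ g₀.ker := by
    rw [KZero.relSub, AddSubgroup.closure_le]
    rintro _ ⟨S, h₁, h₂, h₃, hS, rfl⟩
    obtain ⟨T', T'', e⟩ := exists_towers hS h₁.1 h₃.1 (adicTower i h₂.1 h₂.2)
    rw [SetLike.mem_coe, AddMonoidHom.mem_ker, map_sub, map_sub, FreeAbelianGroup.lift_apply_of,
      FreeAbelianGroup.lift_apply_of, FreeAbelianGroup.lift_apply_of, e,
      grSum_eq h₁.1 T' (adicTower i h₁.1 h₁.2), grSum_eq h₃.1 T'' (adicTower i h₃.1 h₃.2), map_add]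
    abel
  let g : KZero.K0sub (cohSupp X (Set.range i)) →+ KZero.K0sub (cohZ (Z := Z)) := QuotientAddGroup.lift _ g₀ hg₀
  have hfcl : ∀ F : Z.Modules, Coh.IsCoh F →
      f (KZero.clSub cohZ F) = KZero.clSub (cohSupp X (Set.range i)) ((Coh.push i).obj F) := fun F hF => by
    rw [KZero.clSub, dif_pos (show cohZ F from hF)]
    exact FreeAbelianGroup.lift_apply_of _ _
  have hgcl : ∀ G (hG : cohSupp X (Set.range i) G),
      g (KZero.clSub _ G) = c (KZero.clSub _ (adicTower i hG.1 hG.2).grSum) := fun G hG => by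
    rw [KZero.clSub, dif_pos hG]
    exact FreeAbelianGroup.lift_apply_of _ _
  have h1 : g.comp f = AddMonoidHom.id _ := by
    refine QuotientAddGroup.addMonoidHom_ext _ (FreeAbelianGroup.lift_ext _ _ fun F => ?_)
    have hF := prop_push i F.2
    show g (f₀ (FreeAbelianGroup.of F)) = QuotientAddGroup.mk (FreeAbelianGroup.of F)
    rw [FreeAbelianGroup.lift_apply_of, hgcl _ (cohSupp_of_killedCoh i hF), clSub_grSum_killed i hF, hcl _ hF]
    haveI := isIso_counit i F.1
    haveI := cohZ_noetherian i
    refine (clSub_iso (P := cohZ) (asIso ((Scheme.Modules.pullbackPushforwardAdjunction i).counit.app F.1))).symm.trans ?_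
    exact (dif_pos F.2 : KZero.clSub cohZ F.1 = _)
  have h2 : f.comp g = AddMonoidHom.id _ := by
    refine QuotientAddGroup.addMonoidHom_ext _ (FreeAbelianGroup.lift_ext _ _ fun G => ?_)
    let T := adicTower i G.2.1 G.2.2
    show f (g₀ (FreeAbelianGroup.of G)) = QuotientAddGroup.mk (FreeAbelianGroup.of G)
    rw [FreeAbelianGroup.lift_apply_of, hcl _ T.prop_grSum, hfcl _ (prop_pullback i T.prop_grSum)]
    have hiso := clSub_iso (P := cohSupp X (Set.range i)) (clIso i ((killed_iff i _).1 T.prop_grSum.2))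
    refine hiso.trans ((clSub_eq_grSum (Set.range i) G.2 T).symm.trans ?_)
    rw [KZero.clSub, dif_pos G.2]
  exact ⟨AddMonoidHom.toAddEquiv f g h1 h2, hfcl⟩

end Groth.Agent.KZeroLib
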