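import Groth.Prelude.Def_Koszul
import Groth.Agent.KZeroLib.DerivedEuler
import Groth.Agent.DRingLib.PCRegular
import Groth.Agent.CAlgH3.RegularHom
import Mathlib

/-!
# K₀ of perfect complexes supported at the closed point of a regular local ring
-/

set_option autoImplicit false
set_option backward.isDefEq.respectTransparency false
set_option backward.defeqAttrib.useBackward true
universe u

open CategoryTheory CategoryTheory.Limits CategoryTheory.Pretriangulated RingTheory.Sequence

attribute [local instance] HasDerivedCategory.standard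

namespace Groth.Agent.KZeroLib.KoszulPoint

variable (R : Type u) [CommRing R]

theorem nonempty_koszul_iso : ∀ l : List R, IsWeaklyRegular R l.reverse →
    Nonempty (DerivedCategory.Q.obj (Koszul.koszul R l) ≅
      (DerivedCategory.singleFunctor (ModuleCat.{u} R) 0).obj (ModuleCat.of R (R ⧸ Ideal.ofList l))) := by
  intro l
  induction l with
  | nil =>
    intro _
    exact ⟨((DerivedCategory.singleFunctorIsoCompQ (ModuleCat.{u} R) 0).app _).symm ≪≫
      (DerivedCategory.singleFunctor (ModuleCat.{u} R) 0).mapIso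
        (Submodule.quotEquivOfEqBot (Ideal.ofList ([] : List R)) Ideal.ofList_nil).symm.toModuleIso⟩
  | cons f l ih =>
    intro h
    rw [List.reverse_cons, isWeaklyRegular_append_iff, isWeaklyRegular_singleton_iff,
      isSMulRegular_quotient_iff_mem_of_smul_mem] at h
    obtain ⟨h₁, h₂⟩ := h
    have hl : (Ideal.ofList l.reverse • ⊤ : Submodule R R) = Ideal.ofList l := by
      rw [smul_eq_mul, Ideal.mul_top, Ideal.ofList, Ideal.ofList]
      simp only [List.mem_reverse]
    rw [hl] at h₂
    obtain ⟨e⟩ := ih h₁
    let I := Ideal.ofList l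
    let J := Ideal.ofList (f :: l)
    have hIJ : I ≤ J := by
      show Ideal.ofList l ≤ _
      rw [show J = Ideal.ofList (f :: l) from rfl, Ideal.ofList_cons]
      exact le_sup_right
    let M := ModuleCat.of R (R ⧸ I)
    let π : M ⟶ ModuleCat.of R (R ⧸ J) := ModuleCat.ofHom (Submodule.factor hIJ)
    have hw : (f • 𝟙 M) ≫ π = 0 := by
      refine ModuleCat.hom_ext (LinearMap.ext fun x => ?_)
      obtain ⟨x, rfl⟩ := Submodule.mkQ_surjective I x
      show Submodule.factor hIJ (f • Submodule.Quotient.mk x) = 0
      rw [map_smul]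
      show f • Submodule.Quotient.mk x = 0
      rw [← Submodule.Quotient.mk_smul, Submodule.Quotient.mk_eq_zero]
      exact Ideal.mul_mem_right _ _ (Ideal.subset_span (List.mem_cons_self (a := f) (l := l)))
    have hfm : ∀ x : R, (f • 𝟙 M : M ⟶ M) (Submodule.mkQ I x) = Submodule.Quotient.mk (f * x) := by
      intro x
      show (ModuleCat.Hom.hom (f • 𝟙 M)) (Submodule.mkQ I x) = _
      rw [ModuleCat.hom_smul]
      rfl
    have hS : (ShortComplex.mk (f • 𝟙 M) π hw).ShortExact := by
      refine ShortComplex.ShortExact.mk' ((ShortComplex.ShortExact.moduleCat_exact_iff_function_exact _).2 fun y => ?_)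
        ((ModuleCat.mono_iff_injective _).2 fun a b hab => ?_)
        ((ModuleCat.epi_iff_surjective _).2 fun y => ?_)
      · obtain ⟨y, rfl⟩ := Submodule.mkQ_surjective I y
        show Submodule.Quotient.mk y = (0 : R ⧸ J) ↔ _
        have hmem : y ∈ J ↔ ∃ a ∈ Ideal.span {f}, ∃ b ∈ I, a + b = y := by
          show y ∈ Ideal.ofList (f :: l) ↔ _
          rw [Ideal.ofList_cons, Submodule.mem_sup]
        rw [Submodule.Quotient.mk_eq_zero, hmem]
        constructor
        · rintro ⟨a, ha, b, hb, rfl⟩
          obtain ⟨c, rfl⟩ := Ideal.mem_span_singleton'.1 ha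
          refine ⟨Submodule.mkQ I c, (hfm c).trans ?_⟩
          rw [Submodule.mkQ_apply, Submodule.Quotient.eq,
            show f * c - (c * f + b) = -b by ring]
          exact neg_mem hb
        · rintro ⟨z, hz⟩
          obtain ⟨z, rfl⟩ := Submodule.mkQ_surjective I z
          replace hz := (hfm z).symm.trans hz
          rw [Submodule.mkQ_apply, Submodule.Quotient.eq] at hz
          exact ⟨f * z, Ideal.mul_mem_right _ _ (Ideal.mem_span_singleton_self f), -(f * z - y),
            neg_mem hz, by ring⟩
      · obtain ⟨a, rfl⟩ := Submodule.mkQ_surjective I a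
        obtain ⟨b, rfl⟩ := Submodule.mkQ_surjective I b
        replace hab := ((hfm a).symm.trans hab).trans (hfm b)
        rw [Submodule.Quotient.eq, ← mul_sub] at hab
        exact (Submodule.Quotient.eq I).2 (h₂ _ hab)
      · obtain ⟨y, rfl⟩ := Submodule.mkQ_surjective J y
        exact ⟨Submodule.Quotient.mk y, rfl⟩
    have hT₁ := DerivedCategory.mappingCone_triangle_distinguished (f • 𝟙 (Koszul.koszul R l))
    have comm : DerivedCategory.Q.map (f • 𝟙 (Koszul.koszul R l)) ≫ e.hom =
        e.hom ≫ (DerivedCategory.singleFunctor (ModuleCat.{u} R) 0).map (f • 𝟙 M) := by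
      rw [CategoryTheory.Functor.map_smul, CategoryTheory.Functor.map_smul, CategoryTheory.Functor.map_id, CategoryTheory.Functor.map_id, Linear.smul_comp,
        Linear.comp_smul, Category.id_comp, Category.comp_id]
    exact ⟨Triangle.π₃.mapIso (isoTriangleOfIso₁₂ _ _ hT₁ hS.singleTriangle_distinguished e e comm)⟩

variable [IsNoetherianRing R] [IsLocalRing R]

theorem isRegularLocalRing (fs : List R) (hreg : IsRegular R fs)
    (hgen : Ideal.ofList fs = IsLocalRing.maximalIdeal R) : IsRegularLocalRing R := by
  classical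
  refine IsRegularLocalRing.of_spanFinrank_maximalIdeal_le R ?_
  have h1 : (IsLocalRing.maximalIdeal R).spanFinrank ≤ fs.length := by
    rw [← hgen]
    refine (Submodule.spanFinrank_span_le_ncard_of_finite (List.finite_toSet fs)).trans ?_
    rw [show ({r | r ∈ fs} : Set R) = (fs.toFinset : Set R) by ext; simp, Set.ncard_coe_finset]
    exact fs.toFinset_card_le
  have h2 := Module.supportDim_add_length_eq_supportDim_of_isRegular fs hreg
  rw [Module.supportDim_self_eq_ringKrullDim] at h2
  rw [← h2]
  haveI : Nontrivial (R ⧸ (Ideal.ofList fs • ⊤ : Submodule R R)) :=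
    Submodule.Quotient.nontrivial_iff.2 hreg.top_ne_smul.symm
  have h0 : (0 : WithBot ℕ∞) ≤ Module.supportDim R (R ⧸ (Ideal.ofList fs • ⊤ : Submodule R R)) := by
    obtain ⟨p, hp⟩ := Module.nonempty_support_of_nontrivial (R := R) (M := R ⧸ (Ideal.ofList fs • ⊤ : Submodule R R))
    haveI : Nonempty (Module.support R (R ⧸ (Ideal.ofList fs • ⊤ : Submodule R R))) := ⟨⟨p, hp⟩⟩
    exact Order.krullDim_nonneg
  calc ((IsLocalRing.maximalIdeal R).spanFinrank : WithBot ℕ∞) ≤ 0 + (fs.length : WithBot ℕ∞) := by
        rw [zero_add]; exact_mod_cast h1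
    _ ≤ _ := by gcongr

/-- Finite modules supported at the closed point. -/
def ptMod : ObjectProperty (ModuleCat.{u} R) :=
  fun M => Module.Finite R M ∧ Module.support R M ⊆ {IsLocalRing.closedPoint R}

instance : (ptMod R).IsClosedUnderIsomorphisms where
  of_iso e h := by
    haveI := h.1
    exact ⟨Module.Finite.equiv e.toLinearEquiv, e.toLinearEquiv.support_eq ▸ h.2⟩

instance : (ptMod R).ContainsZero where
  exists_zero := ⟨ModuleCat.of R PUnit.{u+1}, ModuleCat.isZero_of_subsingleton _,
    inferInstanceAs (Module.Finite R PUnit.{u+1}),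
    (Module.support_eq_empty (R := R) (M := PUnit.{u+1})).le.trans (Set.empty_subset _)⟩

instance : (ptMod R).IsClosedUnderKernels where
  kernels_le := by
    rintro _ ⟨f, k, hk, hM, -⟩
    refine (ptMod R).prop_of_iso (IsLimit.conePointUniqueUpToIso (kernelIsKernel f) hk) ?_
    rename_i A B
    haveI := hM.1
    have hinj := (ModuleCat.mono_iff_injective (kernel.ι f)).1 inferInstance
    haveI : IsNoetherian R A := isNoetherian_of_isNoetherianRing_of_finite R A
    exact ⟨Module.Finite.of_injective (kernel.ι f).hom hinj,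
      (Module.support_subset_of_injective _ hinj).trans hM.2⟩

instance : (ptMod R).IsClosedUnderCokernels where
  cokernels_le := by
    rintro _ ⟨f, k, hk, -, hN⟩
    refine (ptMod R).prop_of_iso (IsColimit.coconePointUniqueUpToIso (cokernelIsCokernel f) hk) ?_
    haveI := hN.1
    have hsurj := (ModuleCat.epi_iff_surjective (cokernel.π f)).1 inferInstance
    exact ⟨Module.Finite.of_surjective (cokernel.π f).hom hsurj,
      (Module.support_subset_of_surjective _ hsurj).trans hN.2⟩

instance : (ptMod R).IsClosedUnderExtensions where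
  prop_X₂_of_shortExact {S} hS h₁ h₃ := by
    have hex := (ShortComplex.ShortExact.moduleCat_exact_iff_function_exact S).1 hS.exact
    have hinj := (ModuleCat.mono_iff_injective S.f).1 hS.mono_f
    have hsurj := (ModuleCat.epi_iff_surjective S.g).1 hS.epi_g
    haveI := h₁.1
    haveI := h₃.1
    exact ⟨Module.Finite.of_exact hex hsurj,
      (Module.support_of_exact hex hinj hsurj).le.trans (Set.union_subset h₁.2 h₃.2)⟩

theorem bddWith_iff [IsRegularLocalRing R] (K : Dual.D R) :
    (DRing.IsPerfect R K ∧ ∀ i : ℤ, Module.support R (Dual.HD R K i) ⊆ {IsLocalRing.closedPoint R}) ↔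
      BddWith (ptMod R) K := by
  constructor
  · rintro ⟨h, hs⟩
    have hf : ∀ i, Module.Finite R (Dual.HD R K i) := fun i =>
      (DRingLib.finite_homology_of_pc (DRingLib.pc_of_perfect h i)).2 i le_rfl
    obtain ⟨E, a, b, hE, -, ⟨e⟩⟩ := h
    have hge : (DerivedCategory.Q.obj E).IsGE a := (DerivedCategory.isGE_Q_obj_iff E a).2
      ((CochainComplex.isGE_iff _ _).2 fun i hi => HomologicalComplex.ExactAt.of_isZero (hE i (Or.inl hi)))
    have hle : (DerivedCategory.Q.obj E).IsLE b := (DerivedCategory.isLE_Q_obj_iff E b).2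
      ((CochainComplex.isLE_iff _ _).2 fun i hi => HomologicalComplex.ExactAt.of_isZero (hE i (Or.inr hi)))
    exact ⟨fun i => ⟨hf i, hs i⟩, a, b,
      DerivedCategory.TStructure.t.isGE_of_iso e a, DerivedCategory.TStructure.t.isLE_of_iso e b⟩
  · intro hK
    refine ⟨?_, fun i => (hK.1 i).2⟩
    obtain ⟨hP, a, b, ha, hb⟩ := hK
    have hb' : K.IsLE (a + ((b - a).toNat : ℤ)) := DerivedCategory.TStructure.t.isLE_of_le K b _ (by omega)
    have main : ∀ (m : ℕ) (a : ℤ) (L : Dual.D R), BddWith (ptMod R) L → L.IsGE a → L.IsLE (a + m) →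
        DRing.IsPerfect R L := by
      have hsingle : ∀ X : ModuleCat.{u} R, ptMod R X → ∀ n : ℤ,
          DRing.IsPerfect R ((DerivedCategory.singleFunctor (ModuleCat.{u} R) n).obj X) := by
        intro X hX n
        haveI := hX.1
        have h0 : DRing.IsPerfect R (Dual.inD R X) := (DRingLib.perfectModule_iff (R := R)
          (fun p => CAlgH3.isRegularLocalRing_localization p.asIdeal) X).2 hX.1
        exact DRingLib.perfect_of_iso
          (((DerivedCategory.singleFunctors (ModuleCat.{u} R)).shiftIso (-n) n 0 (by omega)).app X)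
          (DRingLib.perfect_shift h0 (-n))
      intro m
      induction m with
      | zero =>
        intro a L hL ha hb
        have : L.IsLE a := by simpa using hb
        obtain ⟨M, ⟨e⟩⟩ := DerivedCategory.exists_iso_singleFunctor_obj_of_isGE_of_isLE L a
        exact DRingLib.perfect_of_iso e.symm (hsingle M ((ptMod R).prop_of_iso
          ((DerivedCategory.homologyFunctor _ a).mapIso e ≪≫
            (DerivedCategory.singleFunctorCompHomologyFunctorIso _ a).app M) (hL.1 a)) a)
      | succ m ih =>
        intro a L hL ha hb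
        let n : ℤ := a + (m + 1 : ℕ)
        obtain ⟨h1, h3⟩ := bddWith_truncLT (Q := BddWith (ptMod R)) (fun _ => Iff.rfl) hL n
        refine DRingLib.perfect_ext (DerivedCategory.TStructure.t.triangleLTGE_distinguished n L)
          (ih a _ h1 (inferInstanceAs (DerivedCategory.TStructure.t.IsGE ((DerivedCategory.TStructure.t.truncLT n).obj L) a))
            (DerivedCategory.TStructure.t.isLE_truncLT_obj _ _ _ (by omega))) ?_
        have hge : ((DerivedCategory.TStructure.t.truncGE n).obj L).IsGE n :=
          inferInstanceAs (DerivedCategory.TStructure.t.IsGE _ n)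
        have hle : ((DerivedCategory.TStructure.t.truncGE n).obj L).IsLE n :=
          inferInstanceAs (DerivedCategory.TStructure.t.IsLE ((DerivedCategory.TStructure.t.truncGE n).obj L) n)
        obtain ⟨M, ⟨e⟩⟩ := DerivedCategory.exists_iso_singleFunctor_obj_of_isGE_of_isLE
          ((DerivedCategory.TStructure.t.truncGE n).obj L) n
        exact DRingLib.perfect_of_iso e.symm (hsingle M ((ptMod R).prop_of_iso
          ((DerivedCategory.homologyFunctor _ n).mapIso e ≪≫
            (DerivedCategory.singleFunctorCompHomologyFunctorIso _ n).app M) (h3.1 n)) n)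
    exact main (b - a).toNat a K ⟨hP, a, b, ha, hb⟩ ha hb'

/-- The residue field generates. -/
theorem clSub_mem (H : AddSubgroup (KZero.K0sub (ptMod R)))
    (hk : KZero.clSub (ptMod R) (ModuleCat.of R (R ⧸ IsLocalRing.maximalIdeal R)) ∈ H)
    (M : ModuleCat.{u} R) (hM : ptMod R M) : KZero.clSub (ptMod R) M ∈ H := by
  haveI := hM.1
  suffices Module.support R M ⊆ {IsLocalRing.closedPoint R} →
      KZero.clSub (ptMod R) (ModuleCat.of R M) ∈ H from this hM.2
  refine IsNoetherianRing.induction_on_isQuotientEquivQuotientPrime (A := R) (M := (M : Type u)) hM.1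
    (motive := fun N _ _ _ => Module.support R N ⊆ {IsLocalRing.closedPoint R} →
      KZero.clSub (ptMod R) (ModuleCat.of R N) ∈ H)
    (fun N _ _ _ _ _ => by rw [clSub_isZero (ModuleCat.isZero_of_subsingleton _)]; exact zero_mem _)
    (fun N _ _ _ p e hN => ?_) (fun N₁ _ _ _ N₂ _ _ _ N₃ _ _ _ f g hf hg hfg h₁ h₃ hN => ?_)
  · have hp : p.1 = IsLocalRing.maximalIdeal R := by
      have : p ∈ Module.support R N := by
        rw [e.support_eq, Module.support_eq_zeroLocus, PrimeSpectrum.mem_zeroLocus, Ideal.annihilator_quotient]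
      exact congrArg PrimeSpectrum.asIdeal (hN this)
    rw [clSub_iso (P := ptMod R) ((e.trans (Submodule.quotEquivOfEq _ _ hp)).symm.toModuleIso)]
    exact hk
  · have hunion := Module.support_of_exact hfg hf hg
    have hs₁ : Module.support R N₁ ⊆ {IsLocalRing.closedPoint R} := (hunion.ge.trans' Set.subset_union_left).trans hN
    have hs₃ : Module.support R N₃ ⊆ {IsLocalRing.closedPoint R} := (hunion.ge.trans' Set.subset_union_right).trans hN
    have hS : (ShortComplex.mk (ModuleCat.ofHom f) (ModuleCat.ofHom g)
        (ModuleCat.hom_ext (LinearMap.ext fun x => (hfg _).2 ⟨x, rfl⟩))).ShortExact :=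
      ShortComplex.ShortExact.mk' ((ShortComplex.ShortExact.moduleCat_exact_iff_function_exact _).2 hfg)
        ((ModuleCat.mono_iff_injective _).2 hf) ((ModuleCat.epi_iff_surjective _).2 hg)
    have := Resolution28.clSub_rel hS (show ptMod R (ModuleCat.of R N₁) from ⟨inferInstance, hs₁⟩)
      (show ptMod R (ModuleCat.of R N₂) from ⟨inferInstance, hN⟩)
      (show ptMod R (ModuleCat.of R N₃) from ⟨inferInstance, hs₃⟩)
    change KZero.clSub (ptMod R) (ModuleCat.of R N₂) = _ at this
    rw [this]
    exact add_mem (h₁ hs₁) (h₃ hs₃)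

theorem closure_koszul (fs : List R) (hreg : IsRegular R fs)
    (hgen : Ideal.ofList fs = IsLocalRing.maximalIdeal R) :
    AddSubgroup.closure
        {KZero.clTr (fun K : Dual.D R => DRing.IsPerfect R K ∧
            ∀ i : ℤ, Module.support R (Dual.HD R K i) ⊆ {IsLocalRing.closedPoint R})
          (DRing.toD (Koszul.koszul R fs))} = ⊤ := by
  haveI := isRegularLocalRing R fs hreg hgen
  have hQ := bddWith_iff R
  obtain ⟨φ, hφ⟩ := exists_equiv (P := ptMod R) hQ
  let k := ModuleCat.of R (R ⧸ IsLocalRing.maximalIdeal R)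
  have hkP : ptMod R k := by
    refine ⟨inferInstanceAs (Module.Finite R (R ⧸ IsLocalRing.maximalIdeal R)), fun p hp => ?_⟩
    change p ∈ Module.support R (R ⧸ IsLocalRing.maximalIdeal R) at hp
    rw [Module.support_eq_zeroLocus, PrimeSpectrum.mem_zeroLocus, Ideal.annihilator_quotient] at hp
    exact PrimeSpectrum.ext (le_antisymm (IsLocalRing.le_maximalIdeal p.2.ne_top) hp)
  have hmem : ∀ r ∈ fs, r ∈ IsLocalRing.maximalIdeal R := fun r hr => hgen ▸ Ideal.subset_span hr
  obtain ⟨e⟩ := nonempty_koszul_iso R fs (IsLocalRing.isWeaklyRegular_of_perm_of_subset_maximalIdeal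
    hreg.toIsWeaklyRegular (List.reverse_perm fs).symm hmem)
  let e' := e ≪≫ (DerivedCategory.singleFunctor (ModuleCat.{u} R) 0).mapIso
    (Submodule.quotEquivOfEq _ _ hgen).toModuleIso
  rw [eq_top_iff]
  rintro x -
  obtain ⟨y, rfl⟩ := φ.surjective x
  obtain ⟨z, rfl⟩ := QuotientAddGroup.mk_surjective y
  suffices hH : ∀ M, ptMod R M → KZero.clSub (ptMod R) M ∈
      (AddSubgroup.closure {KZero.clTr (fun K : Dual.D R => DRing.IsPerfect R K ∧
            ∀ i : ℤ, Module.support R (Dual.HD R K i) ⊆ {IsLocalRing.closedPoint R})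
          (DRing.toD (Koszul.koszul R fs))}).comap φ.toAddMonoidHom by
    induction z using FreeAbelianGroup.induction_on with
    | zero => simp
    | of M =>
      have := hH M.1 M.2
      rw [AddSubgroup.mem_comap, KZero.clSub, dif_pos M.2] at this
      exact this
    | neg X h => rw [QuotientAddGroup.mk_neg, map_neg]; exact neg_mem h
    | add a b ha hb => rw [QuotientAddGroup.mk_add, map_add]; exact add_mem ha hb
  intro M hM
  refine clSub_mem R _ ?_ M hM
  rw [AddSubgroup.mem_comap]
  refine Eq.mpr (congrArg (· ∈ AddSubgroup.closure _) (hφ k hkP)) ?_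
  rw [clTr_iso (P := ptMod R) hQ e']
  exact AddSubgroup.subset_closure rfl

end Groth.Agent.KZeroLib.KoszulPoint
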