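import Groth.Agent.KZeroLib.PerfectCoh
import Groth.Agent.DCat.PCTriangle
import Mathlib

/-!
# Dévissage of bounded objects along their cohomology
-/

set_option autoImplicit false
set_option backward.isDefEq.respectTransparency false
set_option backward.defeqAttrib.useBackward true
universe w v u

open CategoryTheory CategoryTheory.Limits CategoryTheory.Pretriangulated DerivedCategory AlgebraicGeometry

namespace Groth.Agent.KZeroLib

variable {C : Type u} [Category.{v} C] [Abelian C] [HasDerivedCategory.{w} C] {P : ObjectProperty C}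
  [P.IsClosedUnderIsomorphisms] [P.ContainsZero] [P.IsClosedUnderKernels]
  [P.IsClosedUnderCokernels] [P.IsClosedUnderExtensions]

theorem bdd_induction {R : DerivedCategory C → Prop} (iso : ∀ {K L}, (K ≅ L) → R K → R L)
    (ext : ∀ T : Triangle (DerivedCategory C), T ∈ distTriang (DerivedCategory C) → R T.obj₁ → R T.obj₃ → R T.obj₂)
    (single : ∀ X, P X → ∀ n : ℤ, R ((singleFunctor C n).obj X)) :
    ∀ (m : ℕ) (a : ℤ) (K : DerivedCategory C), BddWith P K → K.IsGE a → K.IsLE (a + m) → R K := by
  intro m
  induction m with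
  | zero =>
    intro a K hK ha hb
    have : K.IsLE a := by simpa using hb
    obtain ⟨M, ⟨e⟩⟩ := exists_iso_singleFunctor_obj_of_isGE_of_isLE K a
    exact iso e.symm (single M (P.prop_of_iso
      ((homologyFunctor C a).mapIso e ≪≫ (singleFunctorCompHomologyFunctorIso C a).app M) (hK.1 a)) a)
  | succ m ih =>
    intro a K hK ha hb
    let n : ℤ := a + (m + 1 : ℕ)
    obtain ⟨h1, h3⟩ := bddWith_truncLT (Q := BddWith P) (fun _ => Iff.rfl) hK n
    refine ext _ (TStructure.t.triangleLTGE_distinguished n K)
      (ih a _ h1 (inferInstanceAs (TStructure.t.IsGE ((TStructure.t.truncLT n).obj K) a))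
        (TStructure.t.isLE_truncLT_obj _ _ _ (by omega))) ?_
    have hge : ((TStructure.t.truncGE n).obj K).IsGE n := inferInstanceAs (TStructure.t.IsGE _ n)
    have hle : ((TStructure.t.truncGE n).obj K).IsLE n :=
      inferInstanceAs (TStructure.t.IsLE ((TStructure.t.truncGE n).obj K) n)
    obtain ⟨M, ⟨e⟩⟩ := exists_iso_singleFunctor_obj_of_isGE_of_isLE ((TStructure.t.truncGE n).obj K) n
    exact iso e.symm (single M (P.prop_of_iso
      ((homologyFunctor C n).mapIso e ≪≫ (singleFunctorCompHomologyFunctorIso C n).app M) (h3.1 n)) n)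

attribute [local instance] HasDerivedCategory.standard

/-- Bounded objects whose cohomology consists of perfect modules are perfect. -/
theorem isPerfect_of_bddWith {X : Scheme.{u}} {P : ObjectProperty X.Modules}
    [P.IsClosedUnderIsomorphisms] [P.ContainsZero] [P.IsClosedUnderKernels]
    [P.IsClosedUnderCokernels] [P.IsClosedUnderExtensions]
    (hperf : ∀ G, P G → DCoh.IsPerfect (DCoh.inD X G)) {K : DCoh.D X} (hK : BddWith P K) :
    DCoh.IsPerfect K := by
  obtain ⟨hP, a, b, ha, hb⟩ := hK
  have hb' : K.IsLE (a + ((b - a).toNat : ℤ)) := TStructure.t.isLE_of_le K b _ (by omega)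
  refine bdd_induction (P := P) (R := fun L => DCoh.IsPerfect L) (fun e h => DCat.PCTriangle.perfect_iso e h)
    (fun T hT h₁ h₃ => (DCat.PCTriangle.perfect_two_out_of_three hT).2.1 h₁ h₃) (fun G hG n => ?_)
    (b - a).toNat a K ⟨hP, a, b, ha, hb⟩ ha hb'
  exact DCat.PCTriangle.perfect_iso (((singleFunctors X.Modules).shiftIso (-n) n 0 (by omega)).app G)
    (DCat.PCTriangle.perfect_shift (hperf G hG) (-n))

end Groth.Agent.KZeroLib
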