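import Groth.Agent.KZeroLib.Tower
import Groth.Agent.CAlgH.RegImmStalk
import Groth.Agent.QCohLoc.Basic
import Mathlib

/-!
# The adic filtration of a coherent module supported on a closed subscheme is locally finite
-/

set_option autoImplicit false
set_option backward.isDefEq.respectTransparency.types false
universe u

open CategoryTheory CategoryTheory.Limits AlgebraicGeometry TopologicalSpace Groth.Agent.Coherent
  Groth.Agent.AssSch12 Groth.Agent.ModStalk

namespace Groth.Agent.KZeroLib

variable {X Z : Scheme.{u}} (i : Z ⟶ X) [IsClosedImmersion i]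

local notation "St" => DerSch.stalkFunctor X

/-- Germs killed by the unit `F → i_* i^* F` lie in the ideal times the stalk. -/
theorem germ_mem_of_clUnit_eq_zero {F : X.Modules} (x : Z) {W : X.Opens} (hW : i x ∈ W) (m : Γ(F, W))
    (hm : (clUnit i F).app W m = 0) :
    (show (St (i x)).obj F from F.presheaf.germ W (i x) hW m) ∈
      RingHom.ker (i.stalkMap x).hom • (⊤ : Submodule (X.presheaf.stalk (i x)) ((St (i x)).obj F)) := by
  let φ : X.presheaf.stalk (i x) →+* Z.presheaf.stalk x := (i.stalkMap x).hom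
  let N := RingHom.ker φ • (⊤ : Submodule (X.presheaf.stalk (i x)) ((St (i x)).obj F))
  let M₀ := (St (i x)).obj F ⧸ N
  let e := RingHom.quotientKerEquivOfSurjective (f := φ) (i.stalkMap_surjective x)
  have htor : Module.IsTorsionBySet (X.presheaf.stalk (i x)) M₀ (RingHom.ker φ : Set _) := by
    intro a r
    obtain ⟨b, rfl⟩ := N.mkQ_surjective a
    exact (Submodule.Quotient.mk_eq_zero N).2 (Submodule.smul_mem_smul r.2 Submodule.mem_top)
  let : Module (X.presheaf.stalk (i x) ⧸ RingHom.ker φ) M₀ := htor.module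
  let : Module (Z.presheaf.stalk x) M₀ := Module.compHom M₀ e.symm.toRingHom
  have hcompat : ∀ (r : X.presheaf.stalk (i x)) (a : M₀), φ r • a = r • a := fun r a => by
    change e.symm (φ r) • a = r • a
    rw [show e.symm (φ r) = Ideal.Quotient.mk _ r from (RingEquiv.symm_apply_eq e).2 rfl]
    exact htor.mk_smul r a
  let B : ModuleCat.{u} (Z.presheaf.stalk x) := ModuleCat.of (Z.presheaf.stalk x) M₀
  let g : (St (i x)).obj F ⟶ (ModuleCat.restrictScalars (i.stalkMap x).hom).obj B :=
    ModuleCat.ofHom (Y := (ModuleCat.restrictScalars (i.stalkMap x).hom).obj B)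
      { toFun := fun a => N.mkQ a
        map_add' := fun a b => map_add N.mkQ a b
        map_smul' := fun r a => (map_smul N.mkQ r a).trans (hcompat r _).symm }
  let h : F ⟶ (Coh.push i).obj ((sky x).obj B) := skyMap (i x) g ≫ (skyPushIso i x).inv.app B
  have hh : clUnit i F ≫ (Coh.push i).map
      (((Scheme.Modules.pullbackPushforwardAdjunction i).homEquiv F _).symm h) = h := by
    rw [← Adjunction.homEquiv_unit, Equiv.apply_symm_apply]
  let q := ((Scheme.Modules.pullbackPushforwardAdjunction i).homEquiv F _).symm h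
  have h0 : h.app W m = 0 := by
    rw [← hh]
    change ((Coh.push i).map q).app W ((clUnit i F).app W m) = 0
    exact (congrArg (((Coh.push i).map q).app W) hm).trans (map_zero _)
  have := congrArg (fun z => sval (A := B) (U := i ⁻¹ᵁ W) z hW) h0
  exact (Submodule.Quotient.mk_eq_zero N).1 this

/-- The next step of the adic filtration. -/
noncomputable abbrev step (F : X.Modules) : X.Modules := kernel (clUnit i F)

theorem range_step_le {F : X.Modules} (x : Z) :
    LinearMap.range ((St (i x)).map (kernel.ι (clUnit i F))).hom ≤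
      RingHom.ker (i.stalkMap x).hom • (⊤ : Submodule (X.presheaf.stalk (i x)) ((St (i x)).obj F)) := by
  rintro _ ⟨w, rfl⟩
  obtain ⟨W, hW, m, rfl⟩ := (step i F).presheaf.exists_germ_eq
    (show (step i F).presheaf.stalk (i x) from w)
  have e : ((St (i x)).map (kernel.ι (clUnit i F))).hom ((step i F).presheaf.germ W (i x) hW m) =
      F.presheaf.germ W (i x) hW ((kernel.ι (clUnit i F)).app W m) :=
    Coherent.stalk_map_germ (kernel.ι (clUnit i F)) hW m
  refine Eq.mpr (congrArg (· ∈ _) e) (germ_mem_of_clUnit_eq_zero i x hW _ ?_)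
  exact congrArg (fun ψ : step i F ⟶ (Coh.push i).obj _ => ψ.app W m) (kernel.condition (clUnit i F))

/-- The adic filtration. -/
noncomputable def adicAux (G : X.Modules) : ℕ → Σ' M : X.Modules, M ⟶ G
  | 0 => ⟨G, 𝟙 G⟩
  | n + 1 => ⟨step i (adicAux G n).1, kernel.ι _ ≫ (adicAux G n).2⟩

variable [IsLocallyNoetherian X]

theorem isCoh_step {F : X.Modules} (hF : Coh.IsCoh F) : Coh.IsCoh (step i F) :=
  haveI := hF.1
  haveI := EGA43.InjFibre.isQCoh_pullback i F
  Coherent.isCoh_kernel _ hF (isQCoh_push i _)

theorem mono_adicAux (G : X.Modules) : ∀ n, Mono (adicAux i G n).2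
  | 0 => inferInstanceAs (Mono (𝟙 G))
  | n + 1 =>
    haveI := mono_adicAux G n
    inferInstanceAs (Mono (kernel.ι _ ≫ (adicAux i G n).2))

theorem isCoh_adicAux {G : X.Modules} (hG : Coh.IsCoh G) : ∀ n, Coh.IsCoh (adicAux i G n).1
  | 0 => hG
  | n + 1 => isCoh_step i (isCoh_adicAux hG n)

omit [IsLocallyNoetherian X] in
theorem range_adicAux_le (G : X.Modules) (x : Z) : ∀ n,
    LinearMap.range ((St (i x)).map (adicAux i G n).2).hom ≤
      RingHom.ker (i.stalkMap x).hom ^ n • (⊤ : Submodule (X.presheaf.stalk (i x)) ((St (i x)).obj G))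
  | 0 => by rw [pow_zero, Ideal.one_eq_top, Submodule.top_smul]; exact le_top
  | n + 1 => by
    show LinearMap.range ((St (i x)).map (kernel.ι (clUnit i (adicAux i G n).1) ≫ (adicAux i G n).2)).hom ≤ _
    rw [Functor.map_comp, ModuleCat.hom_comp, LinearMap.range_comp]
    refine (Submodule.map_mono (range_step_le i x)).trans ?_
    rw [Submodule.map_smul'', Submodule.map_top, pow_succ', Submodule.mul_smul]
    exact Submodule.smul_mono le_rfl (range_adicAux_le G x n)

theorem lf_adicAux {G : X.Modules} (hG : Coh.IsCoh G) (hs : CohB1.support G ⊆ Set.range i) :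
    LocallyFinite fun n => CohB1.support (adicAux i G n).1 := by
  classical
  haveI := hG.1
  intro y
  obtain ⟨_, ⟨V, hV, rfl⟩, hyV, -⟩ :=
    X.isBasis_affineOpens.exists_subset_of_mem_open (Set.mem_univ y) isOpen_univ
  haveI : IsNoetherianRing Γ(X, V) := IsLocallyNoetherian.component_noetherian ⟨V, hV⟩
  haveI : Module.Finite Γ(X, V) Γ(G, V) := ((Coherent.isCoh_iff_finite_sections G).1 hG).2 V hV
  let I := i.ker.ideal ⟨V, hV⟩
  have hrad : I ≤ (Module.annihilator Γ(X, V) Γ(G, V)).radical := by
    intro g hg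
    obtain ⟨T, hT⟩ : (⊤ : Submodule Γ(X, V) Γ(G, V)).FG := Module.Finite.fg_top
    have hdisj : Disjoint ((X.basicOpen g : X.Opens) : Set X) (CohB1.support G) := by
      rw [Set.disjoint_left]
      intro z hzg hzs
      have hz := hs hzs
      rw [Set.mem_range] at hz
      obtain ⟨w, rfl⟩ := hz
      have hmem : i w ∈ i.ker.support := i.range_subset_ker_support ⟨w, rfl⟩
      rw [Scheme.IdealSheafData.mem_support_iff_of_mem (U := ⟨V, hV⟩) (X.basicOpen_le g hzg),
        Scheme.mem_zeroLocus_iff] at hmem
      exact hmem g hg hzg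
    haveI := Coherent.subsingleton_sections_of_disjoint G _ hdisj
    have hk : ∀ t : Γ(G, V), ∃ k : ℕ, g ^ k • t = 0 := fun t =>
      QCohLoc.exists_pow_smul_eq_zero G hV g t (Subsingleton.elim _ _)
    choose k hk using hk
    refine ⟨T.sup k, Module.mem_annihilator.2 fun m => ?_⟩
    have hm : m ∈ Submodule.span Γ(X, V) (T : Set Γ(G, V)) := hT ▸ Submodule.mem_top
    induction hm using Submodule.span_induction with
    | mem t ht =>
      obtain ⟨c, hc⟩ := Nat.exists_eq_add_of_le (Finset.le_sup (f := k) ht)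
      rw [hc, pow_add, mul_comm, mul_smul, hk, smul_zero]
    | zero => exact smul_zero _
    | add a b _ _ ha hb => rw [smul_add, ha, hb, add_zero]
    | smul c a _ ha => rw [smul_comm, ha, smul_zero]
  obtain ⟨k, hk⟩ := Ideal.exists_pow_le_of_le_radical_of_fg hrad (IsNoetherian.noetherian _)
  refine ⟨V, V.2.mem_nhds hyV, (Set.finite_lt_nat k).subset ?_⟩
  rintro n ⟨z, hz, hzV⟩
  haveI := mono_adicAux i G n
  show n < k
  refine not_le.1 fun hkn => hz ?_
  obtain ⟨w, rfl⟩ := hs (Coherent.support_subset_of_mono (adicAux i G n).2 hz)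
  have hJ : RingHom.ker (i.stalkMap w).hom = I.map (X.presheaf.germ V (i w) hzV).hom := by
    haveI : IsClosedImmersion (i ∣_ V) := inferInstance
    rw [CAlgH.RegImmStalk.ker_stalkMap_eq i w hV hzV]
    congr 1
    rw [← Scheme.Hom.ker_apply i ⟨V, hV⟩]
  have hzero : RingHom.ker (i.stalkMap w).hom ^ n •
      (⊤ : Submodule (X.presheaf.stalk (i w)) ((St (i w)).obj G)) = ⊥ := by
    rw [eq_bot_iff, hJ, ← Ideal.map_pow, Submodule.smul_le]
    intro r hr v _
    refine Submodule.span_induction (fun r hr => ?_) ?_ (fun a b _ _ ha hb => ?_) (fun c a _ ha => ?_) hr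
    · obtain ⟨a, ha, rfl⟩ := hr
      obtain ⟨f, m, hf, hm⟩ := QCohLoc.exists_smul_stalk_eq_germ (M := G) hV hzV
        (show G.presheaf.stalk (i w) from v)
      have ha0 : a • m = 0 := Module.mem_annihilator.1 (hk (Ideal.pow_le_pow_right hkn ha)) m
      have hu : IsUnit (X.presheaf.germ V (i w) hzV f) := (X.mem_basicOpen f _ hzV).1 hf
      rw [Submodule.mem_bot]
      refine hu.smul_left_cancel.1 (Eq.trans ?_ (smul_zero _).symm)
      rw [smul_comm]
      refine (congrArg (X.presheaf.germ V (i w) hzV a • ·) hm).trans ?_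
      refine ((QCohLoc.germ_smul' G hzV a m).symm.trans ?_)
      rw [ha0]
      exact map_zero _
    · rw [zero_smul]; exact zero_mem _
    · rw [add_smul]; exact add_mem ha hb
    · rw [smul_eq_mul, mul_smul]; exact Submodule.smul_mem _ c ha
  refine subsingleton_of_forall_eq 0 fun v => ?_
  refine (ModuleCat.mono_iff_injective ((St (i w)).map (adicAux i G n).2)).1 inferInstance ?_
  have h1 := range_adicAux_le i G w n ⟨v, rfl⟩
  rw [hzero, Submodule.mem_bot] at h1
  exact h1.trans (map_zero _).symm

/-- The adic tower. -/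
noncomputable def adicTower {G : X.Modules} (hG : Coh.IsCoh G) (hs : CohB1.support G ⊆ Set.range i) :
    Tower i G where
  F n := (adicAux i G n).1
  ι n := (adicAux i G n).2
  d n := kernel.ι (clUnit i (adicAux i G n).1)
  w _ := rfl
  mono := mono_adicAux i G
  iso_zero := inferInstanceAs (IsIso (𝟙 G))
  coh := isCoh_adicAux i hG
  lf := lf_adicAux i hG hs
  killed n := by
    haveI := Coherent.epi_clUnit i (F := (adicAux i G n).1)
    exact killed_of_iso i (IsColimit.coconePointUniqueUpToIso
      (Abelian.epiIsCokernelOfKernel (KernelFork.ofι (kernel.ι (clUnit i (adicAux i G n).1)) (kernel.condition _))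
        (kernelIsKernel (clUnit i (adicAux i G n).1))) (colimit.isColimit _))
      (killed_push i _)

end Groth.Agent.KZeroLib
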