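import Mathlib

/-!
# Coproducts of short exact sequences, and splitting coproducts along a partition of the index type
-/

set_option autoImplicit false

open CategoryTheory CategoryTheory.Limits

namespace Groth.Agent.KZeroLib

universe v w

variable {C : Type w} [Category.{v} C] [Abelian C] {J : Type} [HasColimitsOfShape (Discrete J) C]
  [HasExactColimitsOfShape (Discrete J) C]

/-- A coproduct of short exact sequences. -/
theorem sigma_shortExact {A B D : J → C} (f : ∀ j, A j ⟶ B j) (g : ∀ j, B j ⟶ D j)
    (w : ∀ j, f j ≫ g j = 0) (h : ∀ j, (ShortComplex.mk (f j) (g j) (w j)).ShortExact) :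
    (ShortComplex.mk (Limits.Sigma.map f) (Limits.Sigma.map g)
      (Limits.Sigma.hom_ext _ _ fun j => by simp [reassoc_of% (w j)])).ShortExact := by
  haveI : ∀ j, Epi (g j) := fun j => (h j).epi_g
  haveI : ∀ j, Mono (f j) := fun j => (h j).mono_f
  haveI : Mono (Limits.Sigma.map f) := by
    let φ : Discrete.functor A ⟶ Discrete.functor B := Discrete.natTrans fun j => f j.as
    haveI : ∀ j, Mono (φ.app j) := fun j => inferInstanceAs (Mono (f j.as))
    haveI : Mono φ := NatTrans.mono_of_mono_app φ
    exact (colim : (Discrete J ⥤ C) ⥤ C).map_mono φ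
  have hepi : Epi (Limits.Sigma.map g) := inferInstance
  refine ShortComplex.ShortExact.mk' ?_ inferInstance hepi
  refine ShortComplex.exact_of_g_is_cokernel _ ?_
  refine CokernelCofork.IsColimit.ofπ _ _
    (fun {T} k hk => Limits.Sigma.desc fun j => (h j).gIsCokernel.desc (CokernelCofork.ofπ (Sigma.ι B j ≫ k) (by
      have := congrArg (Sigma.ι A j ≫ ·) hk
      simpa using this)))
    (fun {T} k hk => Limits.Sigma.hom_ext _ _ fun j => ?_) (fun {T} k hk m hm => Limits.Sigma.hom_ext _ _ fun j => ?_)
  · simp only [Limits.Sigma.ι_map_assoc, Limits.Sigma.ι_desc]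
    exact (h j).gIsCokernel.fac _ WalkingParallelPair.one
  · rw [Limits.Sigma.ι_desc]
    refine Cofork.IsColimit.hom_ext (h j).gIsCokernel ?_
    have := congrArg (Sigma.ι B j ≫ ·) hm
    rw [Limits.Sigma.ι_map_assoc] at this
    exact this.trans ((h j).gIsCokernel.fac (CokernelCofork.ofπ (Sigma.ι B j ≫ k) _) WalkingParallelPair.one).symm

omit [HasExactColimitsOfShape (Discrete J) C] in
/-- Coproducts over a disjoint union. -/
theorem sum_shortExact {K L : Type} [HasColimitsOfShape (Discrete K) C] [HasColimitsOfShape (Discrete L) C]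
    (e : K ⊕ L ≃ J) (f : J → C) :
    ∃ (a : (∐ fun k => f (e (.inl k))) ⟶ ∐ f) (b : ∐ f ⟶ ∐ fun l => f (e (.inr l))) (w : a ≫ b = 0),
      (ShortComplex.mk a b w).ShortExact := by
  let tgt : ∀ s : K ⊕ L, f (e s) ⟶ ∐ fun l => f (e (.inr l)) :=
    fun s => match s with
      | .inl _ => 0
      | .inr l => Sigma.ι (fun l => f (e (.inr l))) l
  let back : ∀ s : K ⊕ L, f (e s) ⟶ ∐ fun k => f (e (.inl k)) :=
    fun s => match s with
      | .inl k => Sigma.ι (fun k => f (e (.inl k))) k
      | .inr _ => 0
  let b : ∐ f ⟶ ∐ fun l => f (e (.inr l)) :=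
    Limits.Sigma.desc fun j => eqToHom (by rw [Equiv.apply_symm_apply]) ≫ tgt (e.symm j)
  let r : ∐ f ⟶ ∐ fun k => f (e (.inl k)) :=
    Limits.Sigma.desc fun j => eqToHom (by rw [Equiv.apply_symm_apply]) ≫ back (e.symm j)
  have key : ∀ {T : C} (t : ∀ s : K ⊕ L, f (e s) ⟶ T) (s : K ⊕ L),
      Sigma.ι f (e s) ≫ Limits.Sigma.desc (fun j => eqToHom (by rw [Equiv.apply_symm_apply]) ≫ t (e.symm j)) = t s := by
    intro T t s
    rw [Limits.Sigma.ι_desc]
    have : ∀ (s' : K ⊕ L) (hs : s' = s) (p : f (e s) = f (e s')), eqToHom p ≫ t s' = t s := by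
      rintro s' rfl p; simp
    exact this _ (e.symm_apply_apply s) _
  let a : (∐ fun k => f (e (.inl k))) ⟶ ∐ f := Limits.Sigma.desc fun k => Sigma.ι f (e (.inl k))
  let t : (∐ fun l => f (e (.inr l))) ⟶ ∐ f := Limits.Sigma.desc fun l => Sigma.ι f (e (.inr l))
  have w : a ≫ b = 0 := Limits.Sigma.hom_ext _ _ fun k => by
    rw [comp_zero, Limits.Sigma.ι_desc_assoc]
    exact key tgt (.inl k)
  refine ⟨a, b, w, ShortComplex.Splitting.shortExact
    { r := r
      s := t
      f_r := Limits.Sigma.hom_ext _ _ fun k => by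
        dsimp only
        rw [Category.comp_id, Limits.Sigma.ι_desc_assoc]
        exact key back (.inl k)
      s_g := Limits.Sigma.hom_ext _ _ fun l => by
        dsimp only
        rw [Category.comp_id, Limits.Sigma.ι_desc_assoc]
        exact key tgt (.inr l)
      id := Limits.Sigma.hom_ext _ _ fun j => by
        obtain ⟨s, rfl⟩ := e.surjective j
        dsimp only
        rw [Category.comp_id, Preadditive.comp_add, ← Category.assoc, ← Category.assoc, key back s, key tgt s]
        cases s with
        | inl k =>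
          simp only [back, tgt, zero_comp, add_zero]
          exact Limits.Sigma.ι_desc _ _
        | inr l =>
          simp only [back, tgt, zero_comp, zero_add]
          exact Limits.Sigma.ι_desc _ _ }⟩

/-- The third isomorphism theorem as a short exact sequence of cokernels. -/
theorem cokernel_comp_shortExact {X Y Z : C} (f : X ⟶ Y) (g : Y ⟶ Z) [Mono g] :
    ∃ (a : cokernel f ⟶ cokernel (f ≫ g)) (b : cokernel (f ≫ g) ⟶ cokernel g) (w : a ≫ b = 0),
      (ShortComplex.mk a b w).ShortExact := by
  let a : cokernel f ⟶ cokernel (f ≫ g) := cokernel.map _ _ (𝟙 X) g (by simp)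
  let b : cokernel (f ≫ g) ⟶ cokernel g := cokernel.map _ _ f (𝟙 Z) (by simp)
  have w : a ≫ b = 0 := coequalizer.hom_ext (by simp [a, b])
  refine ⟨a, b, w, ShortComplex.ShortExact.mk' ?_ ?_ ?_⟩
  · refine ShortComplex.exact_of_g_is_cokernel _ (CokernelCofork.IsColimit.ofπ _ _
      (fun {T} k hk => cokernel.desc g (cokernel.π _ ≫ k) (by
        have := congrArg (cokernel.π f ≫ ·) hk
        simpa [a] using this))
      (fun {T} k hk => coequalizer.hom_ext (by simp [b]))
      (fun {T} k hk m hm => coequalizer.hom_ext (by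
        have := congrArg (cokernel.π (f ≫ g) ≫ ·) hm
        simpa [b] using this)))
  · refine Preadditive.mono_of_cancel_zero _ fun {T} k hk => ?_
    obtain ⟨T', π, hπ, y, hy⟩ := surjective_up_to_refinements_of_epi (cokernel.π f) k
    have h0 : (y ≫ g) ≫ cokernel.π (f ≫ g) = 0 := by
      have h1 : π ≫ k ≫ a = 0 := by rw [show k ≫ a = 0 from hk, comp_zero]
      rw [← Category.assoc, hy] at h1
      simpa [a] using h1
    have hex : (ShortComplex.mk (f ≫ g) (cokernel.π (f ≫ g)) (cokernel.condition _)).Exact :=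
      ShortComplex.exact_of_g_is_cokernel _ (cokernelIsCokernel (f ≫ g))
    obtain ⟨T'', π', hπ', x, hx⟩ := hex.exact_up_to_refinements (y ≫ g) h0
    rw [← cancel_epi π, ← cancel_epi π', comp_zero, comp_zero, hy]
    have hyx : π' ≫ y = x ≫ f := by
      rw [← cancel_mono g]
      simpa using hx
    rw [← Category.assoc, hyx, Category.assoc, cokernel.condition, comp_zero]
  · exact epi_of_epi_fac (f := cokernel.π (f ≫ g)) (g := b) (h := cokernel.π g) (by simp [b])

end Groth.Agent.KZeroLib
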