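import Groth.Agent.KZeroLib.SigmaCoh
import Groth.Prelude.Def_KZero
import Groth.Agent.Resolution28.Basic
import Mathlib

/-!
# Dévissage for `K₀` by locally finite filtrations
-/

set_option autoImplicit false
set_option backward.isDefEq.respectTransparency.types false
universe u

open scoped ZeroObject
open CategoryTheory CategoryTheory.Limits AlgebraicGeometry TopologicalSpace Groth.Agent.Resolution28

namespace Groth.Agent.KZeroLib

section Abelian

variable {C : Type*} [Category C] [Abelian C]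

/-- The cokernels of the vertical maps between two short exact rows. -/
theorem cokernel_rows_shortExact {S₁ S₂ : ShortComplex C} (h₁ : S₁.ShortExact) (h₂ : S₂.ShortExact)
    (φ : S₁ ⟶ S₂) [Mono φ.τ₃] :
    ∃ (a : cokernel φ.τ₁ ⟶ cokernel φ.τ₂) (b : cokernel φ.τ₂ ⟶ cokernel φ.τ₃) (w : a ≫ b = 0),
      (ShortComplex.mk a b w).ShortExact := by
  haveI := h₂.mono_f
  haveI := h₁.epi_g
  haveI := h₂.epi_g
  let a : cokernel φ.τ₁ ⟶ cokernel φ.τ₂ := cokernel.map _ _ S₁.f S₂.f φ.comm₁₂
  let b : cokernel φ.τ₂ ⟶ cokernel φ.τ₃ := cokernel.map _ _ S₁.g S₂.g φ.comm₂₃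
  have w : a ≫ b = 0 := coequalizer.hom_ext (by simp [a, b, reassoc_of% S₂.zero])
  refine ⟨a, b, w, ShortComplex.ShortExact.mk' ?_ ?_ ?_⟩
  · refine ShortComplex.exact_of_g_is_cokernel _ ?_
    refine CokernelCofork.IsColimit.ofπ' b w fun {T} k hk => ?_
    have h0 : S₂.f ≫ cokernel.π φ.τ₂ ≫ k = 0 := by
      have := congrArg (cokernel.π φ.τ₁ ≫ ·) hk
      simpa [a] using this
    have h0' : φ.τ₃ ≫ h₂.exact.desc (cokernel.π φ.τ₂ ≫ k) h0 = 0 := by
      rw [← cancel_epi S₁.g, ← Category.assoc, ← φ.comm₂₃, Category.assoc, ShortComplex.Exact.g_desc,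
        cokernel.condition_assoc, zero_comp, comp_zero]
    exact ⟨cokernel.desc _ _ h0', coequalizer.hom_ext (by simp [b])⟩
  · refine Preadditive.mono_of_cancel_zero _ fun {T} k hk => ?_
    change k ≫ a = 0 at hk
    obtain ⟨T', π, hπ, y, hy⟩ := surjective_up_to_refinements_of_epi (cokernel.π φ.τ₁) k
    have h0 : (y ≫ S₂.f) ≫ cokernel.π φ.τ₂ = 0 := by
      have h1 : π ≫ k ≫ a = 0 := by rw [hk, comp_zero]
      rw [← Category.assoc, hy] at h1
      simpa [a] using h1
    have hex : (ShortComplex.mk φ.τ₂ (cokernel.π φ.τ₂) (cokernel.condition _)).Exact :=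
      ShortComplex.exact_of_g_is_cokernel _ (cokernelIsCokernel φ.τ₂)
    obtain ⟨T'', π', hπ', z, hz⟩ := hex.exact_up_to_refinements (y ≫ S₂.f) h0
    change π' ≫ y ≫ S₂.f = z ≫ φ.τ₂ at hz
    have hzg : z ≫ S₁.g = 0 := by
      rw [← cancel_mono φ.τ₃, zero_comp, Category.assoc, ← φ.comm₂₃, ← Category.assoc, ← hz, Category.assoc,
        Category.assoc, S₂.zero, comp_zero, comp_zero]
    haveI := h₁.mono_f
    have hyz : π' ≫ y = h₁.exact.lift z hzg ≫ φ.τ₁ := by
      rw [← cancel_mono S₂.f, Category.assoc, Category.assoc, φ.comm₁₂, ← Category.assoc (h₁.exact.lift z hzg),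
        ShortComplex.Exact.lift_f, hz]
    rw [← cancel_epi π, ← cancel_epi π', comp_zero, comp_zero, hy, ← Category.assoc, hyz, Category.assoc,
      cokernel.condition, comp_zero]
  · exact epi_of_epi_fac (f := cokernel.π φ.τ₂) (g := b) (h := S₂.g ≫ cokernel.π φ.τ₃) (by simp [b])

end Abelian

variable {X Z : Scheme.{u}} [IsLocallyNoetherian X] (i : Z ⟶ X)

/-- Coherent modules killed by the ideal. -/
def killedCoh : ObjectProperty X.Modules := fun M => Coh.IsCoh M ∧ Killed i M

instance : (killedCoh i).IsClosedUnderIsomorphisms where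
  of_iso e h := ⟨Coherent.isCoh_iso e h.1, killed_of_iso i e h.2⟩

instance : (killedCoh i).ContainsZero where
  exists_zero := ⟨0, isZero_zero _, isCoh_isZero (isZero_zero _), killed_isZero i (isZero_zero _)⟩

/-- A locally finite filtration with graded pieces killed by the ideal. -/
structure Tower (G : X.Modules) where
  /-- the pieces -/
  F : ℕ → X.Modules
  /-- the inclusions into `G` -/
  ι : ∀ n, F n ⟶ G
  /-- the inclusions of the pieces -/
  d : ∀ n, F (n + 1) ⟶ F n
  w : ∀ n, d n ≫ ι n = ι (n + 1)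
  mono : ∀ n, Mono (ι n)
  iso_zero : IsIso (ι 0)
  coh : ∀ n, Coh.IsCoh (F n)
  lf : LocallyFinite fun n => CohB1.support (F n)
  killed : ∀ n, Killed i (cokernel (d n))

variable {i} {G : X.Modules}

namespace Tower

theorem mono_d (T : Tower i G) (n : ℕ) : Mono (T.d n) :=
  haveI := T.mono (n + 1)
  mono_of_mono_fac (T.w n)

/-- The associated graded module. -/
noncomputable def grSum (T : Tower i G) : X.Modules := ∐ fun n => cokernel (T.d n)

theorem coh_cokernel (T : Tower i G) (n : ℕ) : Coh.IsCoh (cokernel (T.d n)) :=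
  Coherent.isCoh_cokernel _ (T.coh _).1 (T.coh n)

theorem lf_cokernel (T : Tower i G) : LocallyFinite fun n => CohB1.support (cokernel (T.d n)) :=
  T.lf.subset fun _ => Coherent.support_subset_of_epi (cokernel.π _)

theorem prop_grSum (T : Tower i G) : killedCoh i T.grSum :=
  ⟨isCoh_sigma _ T.coh_cokernel T.lf_cokernel, killed_sigma i _ T.killed⟩

end Tower

theorem killedCoh_sigma {J : Type} {f : J → X.Modules} (hf : ∀ j, killedCoh i (f j))
    (hlf : LocallyFinite fun j => CohB1.support (f j)) : killedCoh i (∐ f) :=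
  ⟨isCoh_sigma f (fun j => (hf j).1) hlf, killed_sigma i f fun j => (hf j).2⟩

/-- The associated graded modules of two filtrations have the same class. -/
theorem grSum_eq (hG : Coh.IsCoh G) (T T' : Tower i G) :
    KZero.clSub (killedCoh i) T.grSum = KZero.clSub (killedCoh i) T'.grSum := by
  haveI := fun n => T.mono n
  haveI := fun n => T'.mono n
  haveI := fun n => T.mono_d n
  haveI := fun n => T'.mono_d n
  let S : ℕ → ℕ → X.Modules := fun n m => kernel (T.ι n ≫ cokernel.π (T'.ι m))
  let p : ∀ n m, S n m ⟶ T.F n := fun n m => kernel.ι _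
  let q : ∀ n m, S n m ⟶ T'.F m := fun n m =>
    Abelian.monoLift (T'.ι m) (p n m ≫ T.ι n) (by rw [Category.assoc]; exact kernel.condition _)
  have hq : ∀ n m, q n m ≫ T'.ι m = p n m ≫ T.ι n := fun n m => Abelian.monoLift_comp _ _ _
  have hmem : ∀ {Y : X.Modules} n m (a : Y ⟶ T.F n) (b : Y ⟶ T'.F m),
      a ≫ T.ι n = b ≫ T'.ι m → a ≫ T.ι n ≫ cokernel.π (T'.ι m) = 0 := fun n m a b e => by
    rw [← Category.assoc, e, Category.assoc, cokernel.condition, comp_zero]
  let h : ∀ n m, S (n + 1) m ⟶ S n m := fun n m => kernel.lift _ (p (n + 1) m ≫ T.d n)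
    (hmem n m _ (q (n + 1) m) (by rw [Category.assoc, T.w, hq]))
  let v : ∀ n m, S n (m + 1) ⟶ S n m := fun n m => kernel.lift _ (p n (m + 1))
    (hmem n m _ (q n (m + 1) ≫ T'.d m) (by rw [Category.assoc, T'.w, hq]))
  have hp : ∀ n m, h n m ≫ p n m = p (n + 1) m ≫ T.d n := fun n m => kernel.lift_ι _ _ _
  have vp : ∀ n m, v n m ≫ p n m = p n (m + 1) := fun n m => kernel.lift_ι _ _ _
  haveI : ∀ n m, Mono (p n m) := fun n m => inferInstanceAs (Mono (kernel.ι _))
  have hmono : ∀ n m, Mono (h n m) := fun n m => mono_of_mono_fac (hp n m)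
  have vmono : ∀ n m, Mono (v n m) := fun n m => mono_of_mono_fac (vp n m)
  have comm : ∀ n m, v (n + 1) m ≫ h n m = h n (m + 1) ≫ v n m := fun n m => by
    rw [← cancel_mono (p n m), Category.assoc, Category.assoc, hp, vp, reassoc_of% vp (n + 1) m, hp]
  -- the diagonal steps have killed cokernels
  have hkill : ∀ n m, Killed i (cokernel (v (n + 1) m ≫ h n m)) := fun n m => by
    let φ : S n m ⟶ cokernel (T.d n) ⊞ cokernel (T'.d m) :=
      biprod.lift (p n m ≫ cokernel.π _) (q n m ≫ cokernel.π _)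
    have e1 : (v (n + 1) m ≫ h n m) ≫ p n m = p (n + 1) (m + 1) ≫ T.d n := by
      rw [Category.assoc, hp, reassoc_of% vp (n + 1) m]
    have e2 : (v (n + 1) m ≫ h n m) ≫ q n m = q (n + 1) (m + 1) ≫ T'.d m := by
      rw [← cancel_mono (T'.ι m), Category.assoc, Category.assoc, hq, ← Category.assoc (h n m),
        ← Category.assoc (v (n + 1) m), ← Category.assoc (v (n + 1) m), e1, Category.assoc, T.w,
        Category.assoc, T'.w, hq]
    have z : (v (n + 1) m ≫ h n m) ≫ φ = 0 := by
      apply biprod.hom_ext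
      · rw [Category.assoc, biprod.lift_fst, ← Category.assoc, e1, Category.assoc, cokernel.condition,
          comp_zero, zero_comp]
      · rw [Category.assoc, biprod.lift_snd, ← Category.assoc, e2, Category.assoc, cokernel.condition,
          comp_zero, zero_comp]
    have hex : (ShortComplex.mk _ φ z).Exact := by
      haveI : Mono (v (n + 1) m ≫ h n m) := haveI := hmono n m; haveI := vmono (n + 1) m; mono_comp _ _
      refine ShortComplex.exact_of_f_is_kernel _ (KernelFork.IsLimit.ofι' _ z fun {Y} k hk => ?_)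
      change k ≫ φ = 0 at hk
      have k1 : (k ≫ p n m) ≫ cokernel.π (T.d n) = 0 := by
        have := congrArg (· ≫ biprod.fst) hk
        simpa [φ] using this
      have k2 : (k ≫ q n m) ≫ cokernel.π (T'.d m) = 0 := by
        have := congrArg (· ≫ biprod.snd) hk
        simpa [φ] using this
      let a := Abelian.monoLift (T.d n) (k ≫ p n m) k1
      let b := Abelian.monoLift (T'.d m) (k ≫ q n m) k2
      refine ⟨kernel.lift _ a (hmem (n + 1) (m + 1) a b (by
        rw [← T.w, ← T'.w, ← Category.assoc a, ← Category.assoc b, Abelian.monoLift_comp,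
          Abelian.monoLift_comp, Category.assoc, Category.assoc, hq])), ?_⟩
      rw [← cancel_mono (p n m), Category.assoc, e1, ← Category.assoc, kernel.lift_ι, Abelian.monoLift_comp]
    haveI : Mono (cokernel.desc _ φ z) := hex.mono_cokernelDesc
    exact killed_of_mono i (cokernel.desc _ φ z) (killed_biprod i (T.killed n) (T'.killed m))
  have hS : ∀ n m, Coh.IsCoh (S n m) := fun n m =>
    Coherent.isCoh_kernel _ (T.coh n) (Coherent.isCoh_cokernel _ (T'.coh m).1 hG).1
  have hSlf : LocallyFinite fun j : ℕ × ℕ => CohB1.support (S j.1 j.2) := fun x => by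
    obtain ⟨t, ht, hf⟩ := T.lf x
    obtain ⟨t', ht', hf'⟩ := T'.lf x
    refine ⟨t ∩ t', Filter.inter_mem ht ht', (hf.prod hf').subset ?_⟩
    rintro ⟨n, m⟩ ⟨z, hz, hzt, hzt'⟩
    haveI : Mono (q n m) := mono_of_mono_fac (hq n m)
    exact ⟨⟨z, Coherent.support_subset_of_mono (p n m) hz, hzt⟩,
      ⟨z, Coherent.support_subset_of_mono (q n m) hz, hzt'⟩⟩
  -- the three families
  let A : ℕ × ℕ → X.Modules := fun j => cokernel (h j.1 j.2)
  let B : ℕ × ℕ → X.Modules := fun j => cokernel (v j.1 j.2)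
  let D : ℕ × ℕ → X.Modules := fun j => cokernel (v (j.1 + 1) j.2 ≫ h j.1 j.2)
  have row1 : ∀ j : ℕ × ℕ, ∃ (a : B (j.1 + 1, j.2) ⟶ D j) (b : D j ⟶ A j) (w : a ≫ b = 0),
      (ShortComplex.mk a b w).ShortExact := fun j => by
    haveI := hmono j.1 j.2
    exact cokernel_comp_shortExact (v (j.1 + 1) j.2) (h j.1 j.2)
  have row2 : ∀ j : ℕ × ℕ, ∃ (a : A (j.1, j.2 + 1) ⟶ D j) (b : D j ⟶ B j) (w : a ≫ b = 0),
      (ShortComplex.mk a b w).ShortExact := fun j => by
    haveI := vmono j.1 j.2
    have := cokernel_comp_shortExact (h j.1 (j.2 + 1)) (v j.1 j.2)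
    rw [← comm] at this
    exact this
  choose a₁ b₁ w₁ s₁ using row1
  choose a₂ b₂ w₂ s₂ using row2
  have hA : ∀ j, killedCoh i (A j) := fun j => ⟨Coherent.isCoh_cokernel _ (hS _ _).1 (hS _ _),
    haveI := (s₁ j).epi_g; killed_of_epi i (b₁ j) (hkill j.1 j.2)⟩
  have hB : ∀ j, killedCoh i (B j) := fun j => ⟨Coherent.isCoh_cokernel _ (hS _ _).1 (hS _ _),
    haveI := (s₂ j).epi_g; killed_of_epi i (b₂ j) (hkill j.1 j.2)⟩
  have hD : ∀ j, killedCoh i (D j) := fun j => ⟨Coherent.isCoh_cokernel _ (hS _ _).1 (hS _ _), hkill j.1 j.2⟩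
  have lA : LocallyFinite fun j => CohB1.support (A j) :=
    hSlf.subset fun _ => Coherent.support_subset_of_epi (cokernel.π _)
  have lB : LocallyFinite fun j => CohB1.support (B j) :=
    hSlf.subset fun _ => Coherent.support_subset_of_epi (cokernel.π _)
  have lD : LocallyFinite fun j => CohB1.support (D j) :=
    hSlf.subset fun _ => Coherent.support_subset_of_epi (cokernel.π _)
  have i1 : Function.Injective fun j : ℕ × ℕ => (j.1 + 1, j.2) := fun a b e => by
    simp only [Prod.ext_iff] at e ⊢; omega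
  have i2 : Function.Injective fun j : ℕ × ℕ => (j.1, j.2 + 1) := fun a b e => by
    simp only [Prod.ext_iff] at e ⊢; omega
  have hB' := killedCoh_sigma (f := fun j : ℕ × ℕ => B (j.1 + 1, j.2)) (fun j => hB _) (lB.comp_injective i1)
  have hA' := killedCoh_sigma (f := fun j : ℕ × ℕ => A (j.1, j.2 + 1)) (fun j => hA _) (lA.comp_injective i2)
  have E1 := clSub_rel (sigma_shortExact a₁ b₁ w₁ s₁) hB' (killedCoh_sigma hD lD) (killedCoh_sigma hA lA)
  have E2 := clSub_rel (sigma_shortExact a₂ b₂ w₂ s₂) hA' (killedCoh_sigma hD lD) (killedCoh_sigma hB lB)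
  let eB : ℕ ⊕ ℕ × ℕ ≃ ℕ × ℕ :=
    { toFun := fun s => match s with
        | .inl m => (0, m)
        | .inr (n, m) => (n + 1, m)
      invFun := fun j => match j with
        | (0, m) => .inl m
        | (n + 1, m) => .inr (n, m)
      left_inv := fun s => by rcases s with m | ⟨n, m⟩ <;> rfl
      right_inv := fun j => by rcases j with ⟨_ | n, m⟩ <;> rfl }
  let eA : ℕ ⊕ ℕ × ℕ ≃ ℕ × ℕ :=
    { toFun := fun s => match s with
        | .inl n => (n, 0)
        | .inr (n, m) => (n, m + 1)
      invFun := fun j => match j with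
        | (n, 0) => .inl n
        | (n, m + 1) => .inr (n, m)
      left_inv := fun s => by rcases s with n | ⟨n, m⟩ <;> rfl
      right_inv := fun j => by rcases j with ⟨n, _ | m⟩ <;> rfl }
  obtain ⟨aB, bB, wB, sB⟩ := sum_shortExact eB B
  obtain ⟨aA, bA, wA, sA⟩ := sum_shortExact eA A
  have E3 := clSub_rel sB (killedCoh_sigma (fun m => hB _) (lB.comp_injective (g := fun m : ℕ => (0, m))
    fun a b e => (Prod.ext_iff.1 e).2)) (killedCoh_sigma hB lB) hB'
  have E4 := clSub_rel sA (killedCoh_sigma (fun m => hA _) (lA.comp_injective (g := fun n : ℕ => (n, 0))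
    fun a b e => (Prod.ext_iff.1 e).1)) (killedCoh_sigma hA lA) hA'
  dsimp only at E1 E2 E3 E4
  -- the boundary families
  haveI : IsIso (T.ι 0) := T.iso_zero
  haveI : IsIso (T'.ι 0) := T'.iso_zero
  have hp0 : ∀ n, IsIso (p n 0) := fun n => by
    haveI : Epi (p n 0) := (IsSplitEpi.mk' ⟨kernel.lift _ (𝟙 _) (by
      rw [cokernel.π_of_epi, comp_zero, comp_zero]), kernel.lift_ι _ _ _⟩).epi
    exact isIso_of_mono_of_epi _
  have hq0 : ∀ m, IsIso (q 0 m) := fun m => by
    haveI : Mono (q 0 m) := mono_of_mono_fac (hq 0 m)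
    haveI : Epi (q 0 m) := (IsSplitEpi.mk' ⟨kernel.lift _ (T'.ι m ≫ inv (T.ι 0))
      (by rw [Category.assoc, IsIso.inv_hom_id_assoc, cokernel.condition]), by
        rw [← cancel_mono (T'.ι m), Category.assoc, hq, kernel.lift_ι_assoc, Category.assoc,
          IsIso.inv_hom_id, Category.comp_id, Category.id_comp]⟩).epi
    exact isIso_of_mono_of_epi _
  let iA : ∀ n, A (n, 0) ≅ cokernel (T.d n) := fun n =>
    cokernel.mapIso _ _ (@asIso _ _ _ _ _ (hp0 (n + 1))) (@asIso _ _ _ _ _ (hp0 n)) (hp n 0)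
  let iB : ∀ m, B (0, m) ≅ cokernel (T'.d m) := fun m =>
    cokernel.mapIso _ _ (@asIso _ _ _ _ _ (hq0 (m + 1))) (@asIso _ _ _ _ _ (hq0 m)) (by
      simp only [asIso_hom]
      rw [← cancel_mono (T'.ι m), Category.assoc, Category.assoc, hq, T'.w, hq, reassoc_of% vp 0 m])
  rw [Tower.grSum, Tower.grSum, clSub_iso (Sigma.mapIso iA), clSub_iso (Sigma.mapIso iB)]
  have := E1.symm.trans E2
  rw [E3, E4] at this
  -- `B' + (A₀ + A') = A' + (B₀ + B')`
  have key : ∀ {M : Type (u + 1)} [AddCommGroup M] (x y z w : M), x + (y + z) = z + (w + x) → y = w := by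
    intro M _ x y z w e
    have : (x + z) + y = (x + z) + w := by linear_combination (norm := abel) e
    exact add_left_cancel this
  exact key _ _ _ _ this

/-- The class of `G` is that of the graded module. -/
theorem clSub_eq_grSum (Y : Set X) (hG : cohSupp X Y G) (T : Tower i G) :
    KZero.clSub (cohSupp X Y) G = KZero.clSub (cohSupp X Y) T.grSum := by
  haveI := fun n => T.mono n
  haveI := fun n => T.mono_d n
  haveI := T.iso_zero
  have hsub : ∀ n, CohB1.support (T.F n) ⊆ Y := fun n => (Coherent.support_subset_of_mono (T.ι n)).trans hG.2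
  have hP : ∀ {J : Type} (f : J → X.Modules), (∀ j, Coh.IsCoh (f j)) →
      (LocallyFinite fun j => CohB1.support (f j)) → (∀ j, CohB1.support (f j) ⊆ Y) → cohSupp X Y (∐ f) :=
    fun f h1 h2 h3 => ⟨isCoh_sigma f h1 h2, (support_sigma_subset f).trans (Set.iUnion_subset h3)⟩
  have hA := hP T.F T.coh T.lf hsub
  have hB := hP (fun n => T.F (n + 1)) (fun n => T.coh _) (T.lf.comp_injective (add_left_injective 1))
    fun n => hsub _
  have hC : cohSupp X Y T.grSum := hP _ T.coh_cokernel T.lf_cokernel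
    fun n => (Coherent.support_subset_of_epi (cokernel.π (T.d n))).trans (hsub n)
  have E1 := clSub_rel (sigma_shortExact T.d (fun n => cokernel.π (T.d n)) (fun n => cokernel.condition _)
    fun n => ShortComplex.ShortExact.mk' (ShortComplex.exact_of_g_is_cokernel _ (cokernelIsCokernel _))
      (T.mono_d n) inferInstance) hB hA hC
  let e : PUnit.{1} ⊕ ℕ ≃ ℕ :=
    { toFun := fun s => match s with
        | .inl _ => 0
        | .inr n => n + 1
      invFun := fun n => match n with
        | 0 => .inl ⟨⟩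
        | n + 1 => .inr n
      left_inv := fun s => by rcases s with _ | n <;> rfl
      right_inv := fun n => by cases n <;> rfl }
  obtain ⟨a, b, w, hs⟩ := sum_shortExact e T.F
  let e0 : (∐ fun k : PUnit.{1} => T.F (e (.inl k))) ≅ G :=
    coproductUniqueIso (fun k : PUnit.{1} => T.F (e (.inl k))) ≪≫ asIso (T.ι 0)
  have E2 := clSub_rel hs ((cohSupp X Y).prop_of_iso e0.symm hG) hA hB
  dsimp only at E1 E2
  rw [← clSub_iso e0] at E2
  rw [E2] at E1
  exact add_left_cancel (a := KZero.clSub (cohSupp X Y) (∐ fun n => T.F (n + 1))) ((add_comm _ _).trans E1)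

/-- A short exact sequence carries a filtration of the middle term to the outer terms additively. -/
theorem exists_towers {S : ShortComplex X.Modules} (hS : S.ShortExact) (h₁ : Coh.IsCoh S.X₁)
    (h₃ : Coh.IsCoh S.X₃) (T : Tower i S.X₂) :
    ∃ (T' : Tower i S.X₁) (T'' : Tower i S.X₃), KZero.clSub (killedCoh i) T.grSum =
      KZero.clSub (killedCoh i) T'.grSum + KZero.clSub (killedCoh i) T''.grSum := by
  haveI := fun n => T.mono n
  haveI := fun n => T.mono_d n
  haveI := hS.mono_f
  haveI := hS.epi_g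
  haveI := T.iso_zero
  let φ : ∀ n, T.F n ⟶ S.X₃ := fun n => T.ι n ≫ S.g
  have hφ : ∀ n, T.d n ≫ φ n = φ (n + 1) := fun n => by rw [← Category.assoc, T.w]
  let ι' : ∀ n, kernel (φ n) ⟶ S.X₁ := fun n => hS.exact.lift (kernel.ι (φ n) ≫ T.ι n) (by
    rw [Category.assoc]; exact kernel.condition _)
  have hι' : ∀ n, ι' n ≫ S.f = kernel.ι (φ n) ≫ T.ι n := fun n => hS.exact.lift_f _ _
  let d' : ∀ n, kernel (φ (n + 1)) ⟶ kernel (φ n) := fun n => kernel.lift _ (kernel.ι _ ≫ T.d n) (by
    rw [Category.assoc, hφ]; exact kernel.condition _)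
  let d'' : ∀ n, Abelian.coimage (φ (n + 1)) ⟶ Abelian.coimage (φ n) := fun n =>
    cokernel.map _ _ (d' n) (T.d n) (kernel.lift_ι _ _ _).symm
  let ι'' : ∀ n, Abelian.coimage (φ n) ⟶ S.X₃ := fun n => Abelian.factorThruCoimage (φ n)
  have hw'' : ∀ n, d'' n ≫ ι'' n = ι'' (n + 1) := fun n => by
    rw [← cancel_epi (Abelian.coimage.π (φ (n + 1)))]
    show cokernel.π _ ≫ d'' n ≫ _ = _
    rw [cokernel.π_desc_assoc, Category.assoc]
    show T.d n ≫ Abelian.coimage.π _ ≫ _ = _
    rw [Abelian.coimage.fac, Abelian.coimage.fac, hφ]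
  haveI : ∀ n, Mono (ι'' n) := fun n => inferInstanceAs (Mono (Abelian.factorThruCoimage (φ n)))
  haveI : ∀ n, Mono (d'' n) := fun n => mono_of_mono_fac (hw'' n)
  let R : ℕ → ShortComplex X.Modules := fun n =>
    ShortComplex.mk (kernel.ι (φ n)) (Abelian.coimage.π (φ n)) (cokernel.condition _)
  have hR : ∀ n, (R n).ShortExact := fun n => ShortComplex.ShortExact.mk'
    (ShortComplex.exact_of_g_is_cokernel _ (cokernelIsCokernel _)) inferInstance inferInstance
  let ψ : ∀ n, R (n + 1) ⟶ R n := fun n =>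
    { τ₁ := d' n
      τ₂ := T.d n
      τ₃ := d'' n
      comm₁₂ := kernel.lift_ι _ _ _
      comm₂₃ := (cokernel.π_desc _ _ _).symm }
  haveI : ∀ n, Mono (ψ n).τ₃ := fun n => inferInstanceAs (Mono (d'' n))
  have hcol : ∀ n, ∃ (a : cokernel (d' n) ⟶ cokernel (T.d n)) (b : cokernel (T.d n) ⟶ cokernel (d'' n))
      (w : a ≫ b = 0), (ShortComplex.mk a b w).ShortExact := fun n =>
    cokernel_rows_shortExact (hR (n + 1)) (hR n) (ψ n)
  choose a b w hs using hcol
  have hk : ∀ n, Coh.IsCoh (kernel (φ n)) := fun n => Coherent.isCoh_kernel _ (T.coh n) h₃.1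
  haveI hm' : ∀ n, Mono (ι' n) := fun n => mono_of_mono_fac (hι' n)
  let T' : Tower i S.X₁ :=
    { F := fun n => kernel (φ n)
      ι := ι'
      d := d'
      w := fun n => by
        rw [← cancel_mono S.f, Category.assoc, hι', hι', kernel.lift_ι_assoc, Category.assoc, T.w]
      mono := hm'
      iso_zero := by
        haveI : Epi (ι' 0) := (IsSplitEpi.mk' ⟨kernel.lift _ (S.f ≫ inv (T.ι 0)) (by
          rw [Category.assoc]; show S.f ≫ inv (T.ι 0) ≫ T.ι 0 ≫ S.g = 0
          rw [IsIso.inv_hom_id_assoc, S.zero]), by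
            rw [← cancel_mono S.f, Category.assoc, hι', kernel.lift_ι_assoc, Category.assoc,
              IsIso.inv_hom_id, Category.comp_id, Category.id_comp]⟩).epi
        exact isIso_of_mono_of_epi _
      coh := hk
      lf := T.lf.subset fun n => Coherent.support_subset_of_mono (kernel.ι (φ n))
      killed := fun n => haveI := (hs n).mono_f; killed_of_mono i (a n) (T.killed n) }
  let T'' : Tower i S.X₃ :=
    { F := fun n => Abelian.coimage (φ n)
      ι := ι''
      d := d''
      w := hw''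
      mono := fun n => inferInstance
      iso_zero := by
        haveI : Epi (Abelian.coimage.π (φ 0) ≫ ι'' 0) := by
          rw [Abelian.coimage.fac]; exact inferInstanceAs (Epi (T.ι 0 ≫ S.g))
        haveI : Epi (ι'' 0) := epi_of_epi (Abelian.coimage.π (φ 0)) (ι'' 0)
        exact isIso_of_mono_of_epi _
      coh := fun n => Coherent.isCoh_cokernel _ (hk n).1 (T.coh n)
      lf := T.lf.subset fun n => Coherent.support_subset_of_epi (Abelian.coimage.π (φ n))
      killed := fun n => haveI := (hs n).epi_g; killed_of_epi i (b n) (T.killed n) }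
  exact ⟨T', T'', clSub_rel (sigma_shortExact a b w hs) T'.prop_grSum T.prop_grSum T''.prop_grSum⟩

end Groth.Agent.KZeroLib
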